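import Groth.Prelude.Def_Red
import Groth.Prelude.Def_ActBC
import Mathlib.FieldTheory.IsAlgClosed.Basic

/-!
# The fibre of a reductive group along a section is reductive
-/

set_option autoImplicit false
set_option linter.style.haveILetI false
set_option linter.unusedSectionVars false
set_option backward.isDefEq.respectTransparency false
set_option maxHeartbeats 1000000
set_option synthInstance.maxHeartbeats 400000

universe u

open CategoryTheory CategoryTheory.Limits MonoidalCategory CartesianMonoidalCategory AlgebraicGeometry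
open scoped MonObj

attribute [-instance] CategoryTheory.Hom.commGroup

noncomputable section

namespace GrpPatchLib

section Prelim

variable {S S' : Scheme.{u}}

/-- Base change along the identity. -/
def idHom (G : Over S) : Red.bc (𝟙 S) G ⟶ G :=
  Over.homMk (pullback.fst G.hom (𝟙 S)) (by
    show pullback.fst G.hom (𝟙 S) ≫ G.hom = pullback.snd G.hom (𝟙 S)
    rw [pullback.condition, Category.comp_id])

instance isIso_idHom (G : Over S) : IsIso (idHom G) := by
  haveI : IsIso ((Over.forget S).map (idHom G)) := inferInstanceAs (IsIso (pullback.fst G.hom (𝟙 S)))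
  exact isIso_of_reflects_iso (idHom G) (Over.forget S)

theorem bc_mul_left_fst (t : S' ⟶ S) {G : Over S} [GrpObj G] {U : Over S'} (a b : U ⟶ Red.bc t G) :
    ((Over.mapPullbackAdj t).homEquiv U G).symm (a * b) =
      ((Over.mapPullbackAdj t).homEquiv U G).symm a * ((Over.mapPullbackAdj t).homEquiv U G).symm b := by
  rw [Equiv.symm_apply_eq, AlgGrp.Action.homEquiv_mul, Equiv.apply_symm_apply, Equiv.apply_symm_apply]

theorem isMonHom_of_mul {G H : Over S} [GrpObj G] [GrpObj H] (φ : G ⟶ H)
    (h : ∀ (U : Over S) (a b : U ⟶ G), (a * b) ≫ φ = (a ≫ φ) * (b ≫ φ)) : IsMonHom φ := by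
  have hμ : μ ≫ φ = (φ ⊗ₘ φ) ≫ μ := by
    have h' := h _ (fst G G) (snd _ _)
    simp only [Hom.mul_def, lift_fst_snd, Category.id_comp] at h'
    rw [h', lift_fst_comp_snd_comp]
  have hone : η ≫ φ = η := by
    have h' := h _ (1 : 𝟙_ (Over S) ⟶ G) 1
    rw [_root_.one_mul] at h'
    have h'' : (1 : 𝟙_ (Over S) ⟶ G) ≫ φ = 1 := right_eq_mul.1 h'
    simp only [Hom.one_def, Category.assoc, toUnit_unit, Category.id_comp] at h''
    exact h''
  exact ⟨hone, hμ⟩

instance isMonHom_idHom (G : Over S) [GrpObj G] : IsMonHom (idHom G) := by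
  refine isMonHom_of_mul _ fun U a b => ?_
  let e : U ⟶ (Over.map (𝟙 S)).obj U := Over.homMk (𝟙 _) (by
    show 𝟙 _ ≫ U.hom ≫ 𝟙 S = U.hom
    rw [Category.id_comp, Category.comp_id])
  have h : ∀ c : U ⟶ Red.bc (𝟙 S) G,
      c ≫ idHom G = e ≫ ((Over.mapPullbackAdj (𝟙 S)).homEquiv U G).symm c := by
    intro c
    refine Over.OverMorphism.ext ?_
    show c.left ≫ pullback.fst G.hom (𝟙 S) = 𝟙 _ ≫ _
    rw [Category.id_comp]
    simp [Over.mapPullbackAdj]
  rw [h, h, h, bc_mul_left_fst, MonObj.comp_mul]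

theorem isMonHom_bc_map (q : S' ⟶ S) {G H : Over S} [GrpObj G] [GrpObj H] (f : G ⟶ H) [IsMonHom f] :
    IsMonHom (M := Red.bc q G) (N := Red.bc q H) ((Over.pullback q).map f) :=
  @Functor.map.instIsMonHom _ _ _ _ _ _ (Over.pullback q) _ _ _ _ _ f _

theorem mono_bc (t : S' ⟶ S) {X Y : Over S} (f : X ⟶ Y) [Mono f] : Mono ((Over.pullback t).map f) := by
  haveI : (Over.pullback t).IsRightAdjoint := (Over.mapPullbackAdj t).isRightAdjoint
  infer_instance

theorem isClosedImmersion_bc (t : S' ⟶ S) {X Y : Over S} (f : X ⟶ Y) [IsClosedImmersion f.left] :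
    IsClosedImmersion ((Over.pullback t).map f).left :=
  MorphismProperty.baseChange_map (P := @IsClosedImmersion) _ _ inferInstance

theorem isNormalHom_comp_iso {U G G' : Over S} [GrpObj U] [GrpObj G] [GrpObj G']
    (i : U ⟶ G) (e : G ⟶ G') [IsIso e] [IsMonHom e] (hn : AlgGrp.IsNormalHom i) :
    AlgGrp.IsNormalHom (i ≫ e) := by
  intro X g n
  obtain ⟨n', hn'⟩ := hn _ (g ≫ CategoryTheory.inv e) n
  refine ⟨n', ?_⟩
  rw [← Category.assoc n' i e, ← hn', MonObj.mul_comp, MonObj.mul_comp, GrpObj.inv_comp]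
  simp

theorem isNormalHom_bc (t : S' ⟶ S) {G H : Over S} [GrpObj G] [GrpObj H] (i : H ⟶ G)
    (hn : AlgGrp.IsNormalHom i) :
    AlgGrp.IsNormalHom (N := Red.bc t H) (G := Red.bc t G) ((Over.pullback t).map i) := by
  intro X g₀ n₀
  let E := (Over.mapPullbackAdj t).homEquiv X G
  let F := (Over.mapPullbackAdj t).homEquiv X H
  obtain ⟨n', hn'⟩ := hn _ (E.symm g₀) (F.symm n₀)
  have h2 : ∀ m, F m ≫ (Over.pullback t).map i = E (m ≫ i) := fun m =>
    (Adjunction.homEquiv_naturality_right (Over.mapPullbackAdj t) m i).symm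
  refine ⟨F n', ?_⟩
  have hinv : E (E.symm g₀)⁻¹ = (E (E.symm g₀))⁻¹ := by
    refine eq_inv_of_mul_eq_one_left ?_
    rw [← AlgGrp.Action.homEquiv_mul, inv_mul_cancel]
    exact right_eq_mul.1 (show E (1 : (Over.map t).obj X ⟶ G) = E 1 * E 1 by
      rw [← AlgGrp.Action.homEquiv_mul, _root_.one_mul])
  rw [h2, ← hn', AlgGrp.Action.homEquiv_mul, AlgGrp.Action.homEquiv_mul, ← h2, hinv]
  simp [E, F]

/-- Tori stay tori along isomorphisms of the base. -/
theorem isTorus_bc_iso {T : Over S} [GrpObj T] (hT : Red.IsTorus T) (t : S' ⟶ S) [IsIso t] :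
    Red.IsTorus (Red.bc t T) := by
  obtain ⟨P, f, hflat, hsurj, hcov, hloc⟩ := hT
  haveI := hflat
  haveI := hsurj
  refine ⟨P, f ≫ CategoryTheory.inv t, inferInstance, inferInstance, fun V hV => ?_, fun x => ?_⟩
  · obtain ⟨W, hWc, hW⟩ := hcov ((CategoryTheory.inv t) ⁻¹ᵁ V) (hV.preimage_of_isIso (CategoryTheory.inv t))
    refine ⟨W, hWc, ?_⟩
    simp only [Scheme.Hom.comp_base, TopCat.coe_comp, Set.image_comp, hW]
    exact Set.image_preimage_eq _ (CategoryTheory.inv t).surjective
  · obtain ⟨U, hU, r, ⟨e⟩⟩ := hloc x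
    let ε := ActBC.bcCompIso (U.ι ≫ f ≫ CategoryTheory.inv t) t T
      (show (U.ι ≫ f ≫ CategoryTheory.inv t) ≫ t = U.ι ≫ f by simp)
    exact ⟨U, hU, r, ⟨Grp.mkIso' ε ≪≫ e⟩⟩

/-- Reductivity is invariant under isomorphisms of groups. -/
theorem isReductiveOver_of_iso {K : Type u} [Field K] {G G' : Over (Spec (CommRingCat.of K))} [GrpObj G] [GrpObj G']
    (e : G ≅ G') [IsMonHom e.hom] (h : Red.IsReductiveOver K G) : Red.IsReductiveOver K G' := by
  obtain ⟨ha, hs, hc, hU⟩ := h
  haveI : IsMonHom e.inv := inferInstance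
  haveI : IsIso e.hom.left := (Over.forget _).map_isIso e.hom
  haveI : IsIso e.inv.left := (Over.forget _).map_isIso e.inv
  haveI := ha
  refine ⟨IsAffine.of_isIso e.inv.left, ?_, ?_, fun U _ i _ hi hUs hUc hN hT ↦ ?_⟩
  · rw [← Over.w e.inv]
    infer_instance
  · haveI := hc
    exact e.hom.left.surjective.connectedSpace e.hom.left.continuous
  · haveI := hi
    refine hU U (i ≫ e.inv) (by rw [Over.comp_left]; infer_instance) hUs hUc (fun T g n ↦ ?_) hT
    obtain ⟨n', hn'⟩ := hN T (g ≫ e.hom) n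
    refine ⟨n', ?_⟩
    have h2 := congrArg (· ≫ e.inv) hn'
    simp only [MonObj.mul_comp, GrpObj.inv_comp, Category.assoc, Iso.hom_inv_id, Category.comp_id] at h2
    exact h2

end Prelim

variable {K K' : Type u} [Field K] [Field K'] {G : Over (Spec (CommRingCat.of K))} [GrpObj G]

/-- Reductivity is invariant under isomorphisms of the base field. -/
theorem isReductiveOver_bc_iso (t : Spec (CommRingCat.of K') ⟶ Spec (CommRingCat.of K)) [IsIso t]
    (h : Red.IsReductiveOver K G) : Red.IsReductiveOver K' (Red.bc t G) := by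
  obtain ⟨ha, hs, hc, hu⟩ := h
  haveI := ha; haveI := hs; haveI := hc
  let q := CategoryTheory.inv t
  haveI : IsIso q := inferInstanceAs (IsIso (CategoryTheory.inv t))
  have hq : q ≫ t = 𝟙 _ := IsIso.inv_hom_id t
  have hq' : t ≫ q = 𝟙 _ := IsIso.hom_inv_id t
  haveI : IsIso (pullback.fst G.hom t) := inferInstance
  have haff : IsAffine (Red.bc t G).left := inferInstanceAs (IsAffine (pullback G.hom t))
  refine ⟨haff, inferInstanceAs (Smooth (pullback.snd G.hom t)), ?_, ?_⟩
  · exact (Scheme.homeoOfIso (asIso (pullback.fst G.hom t))).symm.surjective.connectedSpace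
      (Scheme.homeoOfIso (asIso (pullback.fst G.hom t))).symm.continuous
  intro U _ i _ hci hUs hUc hn hno
  haveI := hci; haveI := hUs; haveI := hUc
  haveI := isMonHom_bc_map q i
  let c : Red.bc q (Red.bc t G) ⟶ G := (ActBC.bcCompIso q t G hq).hom ≫ idHom G
  haveI : IsIso c := inferInstanceAs (IsIso ((ActBC.bcCompIso q t G hq).hom ≫ idHom G))
  haveI : IsMonHom c := by
    show IsMonHom ((ActBC.bcCompIso q t G hq).hom ≫ idHom G); infer_instance
  let i' : Red.bc q U ⟶ G := (Over.pullback q).map i ≫ c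
  haveI : IsIso (pullback.fst U.hom q) := inferInstance
  have hcl : IsClosedImmersion i'.left := by
    haveI : IsIso c.left := (Over.forget _).map_isIso c
    haveI : IsClosedImmersion ((Over.pullback q).map i).left := isClosedImmersion_bc q i
    show IsClosedImmersion (((Over.pullback q).map i).left ≫ c.left)
    infer_instance
  have h1 : IsIso (Red.bc q U).hom := hu (Red.bc q U) i' hcl
    (inferInstanceAs (Smooth (pullback.snd U.hom q)))
    ((Scheme.homeoOfIso (asIso (pullback.fst U.hom q))).symm.surjective.connectedSpace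
      (Scheme.homeoOfIso (asIso (pullback.fst U.hom q))).symm.continuous)
    (isNormalHom_comp_iso _ c (isNormalHom_bc q i hn))
    (fun T _ j _ _ hT => by
      haveI := isMonHom_bc_map t j
      haveI := mono_bc t j
      haveI : IsIso ((ActBC.bcCompIso t q U hq').hom ≫ idHom U) := inferInstance
      let j' : Red.bc t T ⟶ U := (Over.pullback t).map j ≫ (ActBC.bcCompIso t q U hq').hom ≫ idHom U
      haveI : IsMonHom j' := by
        show IsMonHom ((Over.pullback t).map j ≫ (ActBC.bcCompIso t q U hq').hom ≫ idHom U)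
        infer_instance
      haveI : Mono j' := mono_comp _ _
      have h2 : IsIso (Red.bc t T).hom := hno _ j' (isTorus_bc_iso hT t)
      haveI : IsIso (pullback.snd T.hom t) := h2
      show IsIso T.hom
      haveI : IsIso (pullback.fst T.hom t ≫ T.hom) := by rw [pullback.condition]; infer_instance
      exact IsIso.of_isIso_comp_left (pullback.fst T.hom t) T.hom)
  haveI : IsIso (pullback.snd U.hom q) := h1
  show IsIso U.hom
  haveI : IsIso (pullback.fst U.hom q ≫ U.hom) := by rw [pullback.condition]; infer_instance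
  exact IsIso.of_isIso_comp_left (pullback.fst U.hom q) U.hom

variable {S V : Scheme.{u}} {p : V ⟶ S} {z : S ⟶ V}

theorem bijective_residueFieldMap (hz : z ≫ p = 𝟙 S) (x : S) : Function.Bijective (z.residueFieldMap x).hom := by
  refine ⟨(z.residueFieldMap x).hom.injective, fun b => ?_⟩
  have h1 : (z ≫ p).residueFieldMap x = p.residueFieldMap (z x) ≫ z.residueFieldMap x :=
    Scheme.residueFieldMap_comp _ _ _
  have h2 : IsIso ((z ≫ p).residueFieldMap x) := by
    haveI : IsOpenImmersion (z ≫ p) := by rw [hz]; infer_instance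
    infer_instance
  obtain ⟨a, ha⟩ := (ConcreteCategory.bijective_of_isIso ((z ≫ p).residueFieldMap x)).2 b
  exact ⟨(p.residueFieldMap (z x)).hom a, by rw [← ha, h1]; rfl⟩

theorem exists_geomPt_iso (hz : z ≫ p = 𝟙 S) (x : S) :
    ∃ (w : Spec (CommRingCat.of (AlgebraicClosure (S.residueField x))) ⟶
        Spec (CommRingCat.of (AlgebraicClosure (V.residueField (z x))))) (_ : IsIso w),
      w ≫ Red.geomPt (z x) = Red.geomPt x ≫ z := by
  let σ : V.residueField (z x) ≃+* S.residueField x :=
    RingEquiv.ofBijective (z.residueFieldMap x).hom (bijective_residueFieldMap hz x)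
  let Ψ := IsAlgClosure.equivOfEquiv (AlgebraicClosure (V.residueField (z x)))
    (AlgebraicClosure (S.residueField x)) σ
  refine ⟨Spec.map (Ψ.toCommRingCatIso.hom), inferInstance, ?_⟩
  show Spec.map _ ≫ Spec.map _ ≫ V.fromSpecResidueField (z x) = (Spec.map _ ≫ S.fromSpecResidueField x) ≫ z
  rw [← Category.assoc, ← Spec.map_comp, Category.assoc, ← Scheme.Hom.SpecMap_residueFieldMap_fromSpecResidueField,
    ← Category.assoc, ← Spec.map_comp]
  congr 2
  ext a
  exact IsAlgClosure.equivOfEquiv_algebraMap _ _ σ a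

/-- The fibre of a reductive group along a section is reductive. -/
theorem isReductive_section (hz : z ≫ p = 𝟙 S) (H : Over V) [GrpObj H] (hH : Red.IsReductive H) :
    Red.IsReductive (Red.bc z H) := by
  obtain ⟨ha, hs, hf⟩ := hH
  haveI := ha; haveI := hs
  refine ⟨MorphismProperty.pullback_snd (P := @IsAffineHom) H.hom z ha, inferInstanceAs (Smooth (pullback.snd H.hom z)),
    fun x => ?_⟩
  obtain ⟨w, hw, he⟩ := exists_geomPt_iso hz x
  haveI := hw
  have h1 : Red.IsReductiveOver _ (Red.bc w (Red.geomFibre (z x) H)) := isReductiveOver_bc_iso w (hf (z x))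
  have h2 := isReductiveOver_of_iso (ActBC.bcCompIso w (Red.geomPt (z x)) H he) h1
  haveI : IsMonHom (ActBC.bcCompIso (Red.geomPt x) z H rfl).symm.hom :=
    inferInstanceAs (IsMonHom (ActBC.bcCompIso (Red.geomPt x) z H rfl).inv)
  exact isReductiveOver_of_iso (ActBC.bcCompIso (Red.geomPt x) z H rfl).symm h2

end GrpPatchLib
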