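import Groth.Agent.GrpPatchLib.Frame
import Groth.Agent.TorsPatchLib.Quillen

/-!
# Quillen patching for automorphisms of an affine group
-/

set_option autoImplicit false
set_option backward.isDefEq.respectTransparency false
set_option linter.unusedSectionVars false
universe u

open CategoryTheory CategoryTheory.Limits MonoidalCategory CartesianMonoidalCategory AlgebraicGeometry Polynomial
open scoped MonObj TensorProduct
open PatchLib (sub₁ cst)
open TorsPatchLib (pt ptm ptm_comp ptm_id σ σ₂ isIso_σ isIso_σ₂ σ_sc σ₂_sc σ_zero σ₂_zero tp isIso_tp sc away_tensor)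

attribute [-instance] CategoryTheory.Hom.commGroup

noncomputable section

namespace GrpPatchLib

variable {S : Scheme.{u}} {R : Type u} [CommRing R] {s : Spec (CommRingCat.of R) ⟶ S}
  {R1 : Type u} [CommRing R1] [Algebra R R1] [GrpObj (pt s R1)]

variable {C C' C'' : Type u} [CommRing C] [CommRing C'] [CommRing C''] [Algebra R C] [Algebra R C']
  [Algebra R C'']

/-- Pullback of a morphism. -/
abbrev pb (φ : C →ₐ[R] C') (k : pt s R1 ⊗ pt s C ⟶ pt s R1) : pt s R1 ⊗ pt s C' ⟶ pt s R1 :=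
  (pt s R1 ◁ ptm s φ) ≫ k

theorem pb_pb (φ : C →ₐ[R] C') (ψ : C' →ₐ[R] C'') (k : pt s R1 ⊗ pt s C ⟶ pt s R1) :
    pb ψ (pb φ k) = pb (ψ.comp φ) k := by
  rw [pb, pb, pb, ← Category.assoc, ← MonoidalCategory.whiskerLeft_comp, ptm_comp]

theorem sc_sc (A : Type u) [CommRing A] [Algebra R A] (a b : A) :
    (sc (AlgHom.id R A) a).comp (sc (AlgHom.id R A) b) = sc (AlgHom.id R A) (b * a) := by
  refine PatchLib.algHom_ext (fun c => by simp) ?_
  simp [mul_assoc]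

variable {A B : Type u} [CommRing A] [CommRing B] [Algebra R A] [Algebra R B] [Algebra A B]
  [IsScalarTower R A B] (r : A) [IsLocalization.Away r B] [Mono s] [LocallyOfFinitePresentation (pt s R1).hom]

theorem sc_loc (m : ℕ) :
    (sc (IsScalarTower.toAlgHom R A B) 1).comp (sc (AlgHom.id R A) (r ^ m)) =
      (sc (AlgHom.id R B) (algebraMap A B r ^ m)).comp (sc (IsScalarTower.toAlgHom R A B) 1) := by
  refine PatchLib.algHom_ext (fun c => by simp) ?_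
  simp

theorem ev_sc (a : A) : (sub₁ (AlgHom.id R A) 0).comp (sc (AlgHom.id R A) a) = sub₁ (AlgHom.id R A) 0 := by
  refine PatchLib.algHom_ext (fun c => by simp) (by simp)

/-- The descent step for endomorphisms. -/
theorem exists_desc_hom (φ : pt s R1 ⊗ pt s B[X] ⟶ pt s R1) (h0 : pb (sub₁ (AlgHom.id R B) 0) φ = fst _ _) :
    ∃ N : ℕ, ∀ M, N ≤ M → ∃ g : pt s R1 ⊗ pt s A[X] ⟶ pt s R1, pb (sub₁ (AlgHom.id R A) 0) g = fst _ _ ∧
      pb (sc (IsScalarTower.toAlgHom R A B) 1) g = pb (sc (AlgHom.id R B) (algebraMap A B r ^ M)) φ := by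
  let ψ := Algebra.TensorProduct.map (AlgHom.id R R1) (IsScalarTower.toAlgHom R A B)
  letI := ψ.toRingHom.toAlgebra
  have : IsScalarTower R (R1 ⊗[R] A) (R1 ⊗[R] B) := IsScalarTower.of_algebraMap_eq fun c => (ψ.commutes c).symm
  have hψ : IsScalarTower.toAlgHom R (R1 ⊗[R] A) (R1 ⊗[R] B) = ψ := AlgHom.ext fun _ => rfl
  have : IsLocalization.Away ((1 : R1) ⊗ₜ[R] r) (R1 ⊗[R] B) := away_tensor R1 r
  haveI := isIso_σ s R1 (C := A)
  haveI := isIso_σ s R1 (C := B)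
  obtain ⟨N, g, hg0, hgN⟩ := TorsPatchLib.exists_descend_point s (A := R1 ⊗[R] A) (B := R1 ⊗[R] B)
    ((1 : R1) ⊗ₜ[R] r) (σ s R1 B ≫ (φ * (fst _ _)⁻¹)) (by
      rw [← Category.assoc, σ_zero, Category.assoc, MonObj.comp_mul, GrpObj.comp_inv, whiskerLeft_fst]
      exact (congrArg (tp s R1 B ≫ ·) (by rw [show (pt s R1 ◁ ptm s (sub₁ (AlgHom.id R B) 0)) ≫ φ = fst _ _ from h0,
        mul_inv_cancel])).trans (MonObj.comp_one _))
  have hr : algebraMap (R1 ⊗[R] A) (R1 ⊗[R] B) ((1 : R1) ⊗ₜ[R] r) ^ N = (1 : R1) ⊗ₜ[R] (algebraMap A B r ^ N) := by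
    show ψ ((1 : R1) ⊗ₜ[R] r) ^ N = _
    simp [ψ, Algebra.TensorProduct.tmul_pow]
  rw [hψ, hr] at hgN
  let g₁ : pt s R1 ⊗ pt s A[X] ⟶ pt s R1 := (inv (σ s R1 A) ≫ g) * fst _ _
  have hg₁0 : pb (sub₁ (AlgHom.id R A) 0) g₁ = fst _ _ := by
    haveI := isIso_tp s R1 (C := A)
    have e : (pt s R1 ◁ ptm s (sub₁ (AlgHom.id R A) 0)) ≫ inv (σ s R1 A) ≫ g = 1 := by
      rw [← cancel_epi (tp s R1 A), MonObj.comp_one, ← Category.assoc, ← σ_zero, Category.assoc,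
        IsIso.hom_inv_id_assoc, hg0]
    rw [pb, MonObj.comp_mul, e, _root_.one_mul, whiskerLeft_fst]
  have hg₁N : pb (sc (IsScalarTower.toAlgHom R A B) 1) g₁ = pb (sc (AlgHom.id R B) (algebraMap A B r ^ N)) φ := by
    have e : (pt s R1 ◁ ptm s (sc (IsScalarTower.toAlgHom R A B) 1)) ≫ inv (σ s R1 A) ≫ g =
        (pt s R1 ◁ ptm s (sc (AlgHom.id R B) (algebraMap A B r ^ N))) ≫ (φ * (fst _ _)⁻¹) := by
      rw [← cancel_epi (σ s R1 B), ← Category.assoc, ← σ_sc, Category.assoc, IsIso.hom_inv_id_assoc,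
        ← Category.assoc (σ s R1 B), ← σ_sc, Category.assoc, Algebra.TensorProduct.map_id]
      exact hgN
    rw [pb, MonObj.comp_mul, e, whiskerLeft_fst, MonObj.comp_mul, GrpObj.comp_inv, whiskerLeft_fst,
      inv_mul_cancel_right]
  refine ⟨N, fun M hM => ⟨pb (sc (AlgHom.id R A) (r ^ (M - N))) g₁, ?_, ?_⟩⟩
  · rw [pb_pb, ev_sc, hg₁0]
  · rw [pb_pb, sc_loc, ← pb_pb, hg₁N, pb_pb, sc_sc, ← pow_add, Nat.add_sub_cancel' hM]

theorem eq_mono {a b : pt s R1 ⊗ pt s A[X] ⟶ pt s R1} {k m : ℕ}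
    (h : pb (sc (AlgHom.id R A) (r ^ k)) a = pb (sc (AlgHom.id R A) (r ^ k)) b) (hkm : k ≤ m) :
    pb (sc (AlgHom.id R A) (r ^ m)) a = pb (sc (AlgHom.id R A) (r ^ m)) b := by
  have e : r ^ m = r ^ k * r ^ (m - k) := by rw [← pow_add, Nat.add_sub_cancel' hkm]
  rw [e, ← sc_sc, ← pb_pb, ← pb_pb, h]

/-- Two endomorphisms agree after scaling. -/
theorem exists_eq₁ (a b : pt s R1 ⊗ pt s A[X] ⟶ pt s R1)
    (h0 : pb (sub₁ (AlgHom.id R A) 0) a = pb (sub₁ (AlgHom.id R A) 0) b)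
    (hB : pb (sc (IsScalarTower.toAlgHom R A B) 1) a = pb (sc (IsScalarTower.toAlgHom R A B) 1) b) :
    ∃ k : ℕ, pb (sc (AlgHom.id R A) (r ^ k)) a = pb (sc (AlgHom.id R A) (r ^ k)) b := by
  let ψ := Algebra.TensorProduct.map (AlgHom.id R R1) (IsScalarTower.toAlgHom R A B)
  letI := ψ.toRingHom.toAlgebra
  have : IsScalarTower R (R1 ⊗[R] A) (R1 ⊗[R] B) := IsScalarTower.of_algebraMap_eq fun c => (ψ.commutes c).symm
  have hψ : IsScalarTower.toAlgHom R (R1 ⊗[R] A) (R1 ⊗[R] B) = ψ := AlgHom.ext fun _ => rfl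
  have : IsLocalization.Away ((1 : R1) ⊗ₜ[R] r) (R1 ⊗[R] B) := away_tensor R1 r
  haveI := isIso_σ s R1 (C := A)
  obtain ⟨k, hk⟩ := TorsPatchLib.exists_scale_eq s (A := R1 ⊗[R] A) (B := R1 ⊗[R] B) ((1 : R1) ⊗ₜ[R] r)
    (σ s R1 A ≫ a) (σ s R1 A ≫ b) (by
      rw [← Category.assoc, ← Category.assoc, σ_zero, Category.assoc, Category.assoc]
      exact congrArg (tp s R1 A ≫ ·) h0) (by
      rw [hψ, show (1 : R1 ⊗[R] B) = (1 : R1) ⊗ₜ[R] (1 : B) from rfl, ← Category.assoc, ← Category.assoc, σ_sc,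
        Category.assoc, Category.assoc]
      exact congrArg (σ s R1 B ≫ ·) hB)
  refine ⟨k, ?_⟩
  rw [show ((1 : R1) ⊗ₜ[R] r) ^ k = (1 : R1) ⊗ₜ[R] (r ^ k) by simp [Algebra.TensorProduct.tmul_pow],
    ← Category.assoc, ← Category.assoc,
    show AlgHom.id R (R1 ⊗[R] A) = Algebra.TensorProduct.map (AlgHom.id R R1) (AlgHom.id R A) from
      Algebra.TensorProduct.map_id.symm, σ_sc, Category.assoc, Category.assoc, cancel_epi] at hk
  exact hk

/-- `k (a * b)`. -/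
def mulL {W : Over S} (k : pt s R1 ⊗ W ⟶ pt s R1) : pt s R1 ⊗ (pt s R1 ⊗ W) ⟶ pt s R1 :=
  lift (fst _ _ * (snd _ _ ≫ fst _ _)) (snd _ _ ≫ snd _ _) ≫ k

/-- `k a * k b`. -/
def mulR {W : Over S} (k : pt s R1 ⊗ W ⟶ pt s R1) : pt s R1 ⊗ (pt s R1 ⊗ W) ⟶ pt s R1 :=
  (lift (fst _ _) (snd _ _ ≫ snd _ _) ≫ k) * (snd _ _ ≫ k)

theorem map_mul_iff {W : Over S} (k : pt s R1 ⊗ W ⟶ pt s R1) :
    (∀ (T : Over S) (a b : T ⟶ pt s R1) (v : T ⟶ W),
      lift (a * b) v ≫ k = (lift a v ≫ k) * (lift b v ≫ k)) ↔ mulL k = mulR k := by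
  constructor
  · intro h
    have h1 := h _ (fst (pt s R1) (pt s R1 ⊗ W)) (snd _ _ ≫ fst _ _) (snd _ _ ≫ snd _ _)
    rw [← comp_lift (snd (pt s R1) (pt s R1 ⊗ W)), lift_fst_snd, Category.comp_id] at h1
    exact h1
  · intro h T a b v
    have h1 := congrArg (lift a (lift b v) ≫ ·) h
    simpa [mulL, mulR, MonObj.comp_mul, comp_lift_assoc] using h1

theorem mulL_pull {W W' : Over S} (f : W' ⟶ W) (k : pt s R1 ⊗ W ⟶ pt s R1) :
    (pt s R1 ◁ (pt s R1 ◁ f)) ≫ mulL k = mulL ((pt s R1 ◁ f) ≫ k) := by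
  simp [mulL, MonObj.comp_mul, comp_lift_assoc, lift_whiskerLeft_assoc]

theorem mulR_pull {W W' : Over S} (f : W' ⟶ W) (k : pt s R1 ⊗ W ⟶ pt s R1) :
    (pt s R1 ◁ (pt s R1 ◁ f)) ≫ mulR k = mulR ((pt s R1 ◁ f) ≫ k) := by
  simp [mulR, MonObj.comp_mul, comp_lift_assoc, lift_whiskerLeft_assoc]

theorem mul_fst (W : Over S) : mulL (fst (pt s R1) W) = mulR (fst (pt s R1) W) :=
  (map_mul_iff _).1 fun T a b v => by simp

/-- Endomorphisms become homomorphisms after scaling. -/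
theorem exists_eq₂ (g : pt s R1 ⊗ pt s A[X] ⟶ pt s R1)
    (h0 : pb (sub₁ (AlgHom.id R A) 0) g = fst _ _)
    (hB : mulL (pb (sc (IsScalarTower.toAlgHom R A B) 1) g) = mulR (pb (sc (IsScalarTower.toAlgHom R A B) 1) g)) :
    ∃ k : ℕ, ∀ m, k ≤ m → mulL (pb (sc (AlgHom.id R A) (r ^ m)) g) = mulR (pb (sc (AlgHom.id R A) (r ^ m)) g) := by
  let ψ := Algebra.TensorProduct.map (AlgHom.id R R1) (IsScalarTower.toAlgHom R A B)
  let ψ₂ := Algebra.TensorProduct.map (AlgHom.id R R1) ψ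
  letI := ψ.toRingHom.toAlgebra
  letI := ψ₂.toRingHom.toAlgebra
  have : IsScalarTower R (R1 ⊗[R] A) (R1 ⊗[R] B) := IsScalarTower.of_algebraMap_eq fun c => (ψ.commutes c).symm
  have : IsScalarTower R (R1 ⊗[R] (R1 ⊗[R] A)) (R1 ⊗[R] (R1 ⊗[R] B)) :=
    IsScalarTower.of_algebraMap_eq fun c => (ψ₂.commutes c).symm
  have hψ₂ : IsScalarTower.toAlgHom R (R1 ⊗[R] (R1 ⊗[R] A)) (R1 ⊗[R] (R1 ⊗[R] B)) = ψ₂ :=
    AlgHom.ext fun _ => rfl
  have : IsLocalization.Away ((1 : R1) ⊗ₜ[R] r) (R1 ⊗[R] B) := away_tensor R1 r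
  have : IsLocalization.Away ((1 : R1) ⊗ₜ[R] ((1 : R1) ⊗ₜ[R] r)) (R1 ⊗[R] (R1 ⊗[R] B)) :=
    away_tensor (R := R) R1 (A := R1 ⊗[R] A) (B := R1 ⊗[R] B) ((1 : R1) ⊗ₜ[R] r)
  haveI := isIso_σ₂ s R1 (C := A)
  obtain ⟨k, hk⟩ := TorsPatchLib.exists_scale_eq s (A := R1 ⊗[R] (R1 ⊗[R] A)) (B := R1 ⊗[R] (R1 ⊗[R] B))
    ((1 : R1) ⊗ₜ[R] ((1 : R1) ⊗ₜ[R] r)) (σ₂ s R1 A ≫ mulL g) (σ₂ s R1 A ≫ mulR g) (by
      rw [← Category.assoc (ptm s _) (σ₂ s R1 A), ← Category.assoc (ptm s _) (σ₂ s R1 A), σ₂_zero]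
      simp only [Category.assoc, mulL_pull, mulR_pull]
      rw [show (pt s R1 ◁ ptm s (sub₁ (AlgHom.id R A) 0)) ≫ g = fst _ _ from h0, mul_fst]) (by
      rw [hψ₂, ← Category.assoc (ptm s _) (σ₂ s R1 A), ← Category.assoc (ptm s _) (σ₂ s R1 A),
        show (1 : R1 ⊗[R] (R1 ⊗[R] B)) = (1 : R1) ⊗ₜ[R] ((1 : R1) ⊗ₜ[R] (1 : B)) from rfl, σ₂_sc,
        Category.assoc, Category.assoc, mulL_pull, mulR_pull]
      exact congrArg (σ₂ s R1 B ≫ ·) hB)
  have hk' : ((1 : R1) ⊗ₜ[R] ((1 : R1) ⊗ₜ[R] r)) ^ k = (1 : R1) ⊗ₜ[R] ((1 : R1) ⊗ₜ[R] (r ^ k)) := by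
    simp [Algebra.TensorProduct.tmul_pow]
  rw [hk', ← Category.assoc (ptm s _) (σ₂ s R1 A), ← Category.assoc (ptm s _) (σ₂ s R1 A),
    show AlgHom.id R (R1 ⊗[R] (R1 ⊗[R] A)) = Algebra.TensorProduct.map (AlgHom.id R R1)
      (Algebra.TensorProduct.map (AlgHom.id R R1) (AlgHom.id R A)) by
      rw [Algebra.TensorProduct.map_id, Algebra.TensorProduct.map_id],
    σ₂_sc, Category.assoc, Category.assoc, mulL_pull, mulR_pull, cancel_epi] at hk
  refine ⟨k, fun m hm => ?_⟩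
  rw [show r ^ m = r ^ k * r ^ (m - k) by rw [← pow_add, Nat.add_sub_cancel' hm], ← sc_sc, ← pb_pb, pb,
    ← mulL_pull, ← mulR_pull]
  exact congrArg (_ ≫ ·) hk

/-- Pullback of automorphisms. -/
abbrev pl (φ : C →ₐ[R] C') (k : Aut (pt s R1) (pt s C)) : Aut (pt s R1) (pt s C') := k.pull (ptm s φ)

theorem pl_mul (φ : C →ₐ[R] C') (k k' : Aut (pt s R1) (pt s C)) : pl φ (k * k') = pl φ k * pl φ k' :=
  Aut.pull_mul _ _ _

theorem pl_inv (φ : C →ₐ[R] C') (k : Aut (pt s R1) (pt s C)) : pl φ k⁻¹ = (pl φ k)⁻¹ := Aut.pull_inv _ _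

theorem pl_one (φ : C →ₐ[R] C') : pl φ (1 : Aut (pt s R1) (pt s C)) = 1 := Aut.pull_one _

theorem pl_pl (φ : C →ₐ[R] C') (ψ : C' →ₐ[R] C'') (k : Aut (pt s R1) (pt s C)) :
    pl ψ (pl φ k) = pl (ψ.comp φ) k := Aut.ext (pb_pb φ ψ k.hom)

theorem pl_id (k : Aut (pt s R1) (pt s C)) : pl (AlgHom.id R C) k = k := by
  refine Aut.ext ?_
  show (pt s R1 ◁ ptm s (AlgHom.id R C)) ≫ k.hom = _
  rw [ptm_id, MonoidalCategory.whiskerLeft_id, Category.id_comp]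

theorem cc_pull (φ : C →ₐ[R] C') (k k' : pt s R1 ⊗ pt s C ⟶ pt s R1) :
    pb φ (lift k' (snd _ _) ≫ k) = lift (pb φ k') (snd _ _) ≫ pb φ k := by
  rw [pb, pb, pb, lift_whiskerLeft_assoc, comp_lift_assoc, whiskerLeft_snd]

/-- The descent step for automorphisms. -/
theorem exists_descend_aut (φ : Aut (pt s R1) (pt s B[X])) (h0 : pl (sub₁ (AlgHom.id R B) 0) φ = 1) :
    ∃ (N : ℕ) (g : Aut (pt s R1) (pt s A[X])), pl (sub₁ (AlgHom.id R A) 0) g = 1 ∧
      pl (sub₁ (cst.comp (IsScalarTower.toAlgHom R A B)) (X : B[X])) g =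
        pl (sub₁ cst (Polynomial.C (algebraMap A B r ^ N) * X)) φ := by
  obtain ⟨N₁, hN₁⟩ := exists_desc_hom r φ.hom (congrArg Aut.hom h0)
  obtain ⟨N₂, hN₂⟩ := exists_desc_hom r φ.inv (congrArg Aut.inv h0)
  obtain ⟨g, hg0, hgN⟩ := hN₁ (N₁ + N₂) (Nat.le_add_right _ _)
  obtain ⟨g', hg'0, hg'N⟩ := hN₂ (N₁ + N₂) (Nat.le_add_left _ _)
  set N := N₁ + N₂
  let φN := pl (sc (AlgHom.id R B) (algebraMap A B r ^ N)) φ
  obtain ⟨k₁, hk₁⟩ := exists_eq₂ (B := B) r g hg0 (by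
    rw [hgN]
    exact (map_mul_iff φN.hom).1 fun T a b v => φN.map_mul a b v)
  obtain ⟨k₂, hk₂⟩ := exists_eq₁ (B := B) r (lift g' (snd _ _) ≫ g) (fst _ _)
    (by rw [cc_pull, hg'0, hg0, lift_fst, pb, whiskerLeft_fst])
    (by rw [cc_pull, hg'N, hgN]; exact φN.hom_inv.trans (whiskerLeft_fst _ _).symm)
  obtain ⟨k₃, hk₃⟩ := exists_eq₁ (B := B) r (lift g (snd _ _) ≫ g') (fst _ _)
    (by rw [cc_pull, hg'0, hg0, lift_fst, pb, whiskerLeft_fst])
    (by rw [cc_pull, hg'N, hgN]; exact φN.inv_hom.trans (whiskerLeft_fst _ _).symm)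
  let K := k₁ + k₂ + k₃
  let gK := pb (sc (AlgHom.id R A) (r ^ K)) g
  let gK' := pb (sc (AlgHom.id R A) (r ^ K)) g'
  refine ⟨N + K, ⟨gK, gK', fun {T} => (map_mul_iff gK).2 (hk₁ K (by omega)) T, ?_, ?_⟩, Aut.ext ?_, Aut.ext ?_⟩
  · rw [← cc_pull, eq_mono r hk₂ (by omega), pb, whiskerLeft_fst]
  · rw [← cc_pull, eq_mono r hk₃ (by omega), pb, whiskerLeft_fst]
  · show pb _ gK = fst _ _
    rw [pb_pb, ev_sc, hg0]
  · have e1 : sub₁ (cst.comp (IsScalarTower.toAlgHom R A B)) (X : B[X]) = sc (IsScalarTower.toAlgHom R A B) 1 := by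
      simp [sc]
    show pb _ gK = pb _ φ.hom
    rw [e1, pb_pb, sc_loc, ← pb_pb, hgN, pb_pb]
    congr 1
    refine PatchLib.algHom_ext (fun c => by simp) ?_
    simp [pow_add]
    ring

end GrpPatchLib

namespace GrpPatchLib

section Mul

variable {S : Scheme.{u}} {R : Type u} [CommRing R] {s : Spec (CommRingCat.of R) ⟶ S}
  {R1 : Type u} [CommRing R1] [Algebra R R1] [GrpObj (pt s R1)] [Mono s] [LocallyOfFinitePresentation (pt s R1).hom]

/-- **Quillen patching** for automorphisms of an affine group. -/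
theorem exists_aut_mul {Q : Type u} [CommRing Q] [Algebra R Q] {r r' : Q}
    (hrr : Ideal.span ({r, r'} : Set Q) = ⊤)
    (A A' B : Type u) [CommRing A] [CommRing A'] [CommRing B] [Algebra R A] [Algebra R A'] [Algebra R B]
    [Algebra Q A] [Algebra Q A'] [Algebra Q B] [IsScalarTower R Q A] [IsScalarTower R Q A'] [IsScalarTower R Q B]
    [IsLocalization.Away r A] [IsLocalization.Away r' A'] [IsLocalization.Away (r * r') B]
    [Algebra A B] [Algebra A' B] [IsScalarTower R A B] [IsScalarTower R A' B]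
    [IsScalarTower Q A B] [IsScalarTower Q A' B]
    (g : Aut (pt s R1) (pt s B[X])) (hg : pl (sub₁ (AlgHom.id R B) 0) g = 1) :
    ∃ (g₁ : Aut (pt s R1) (pt s A[X])) (g₂ : Aut (pt s R1) (pt s A'[X])),
      g = pl (sub₁ (cst.comp (IsScalarTower.toAlgHom R A B)) (X : B[X])) g₁ *
        pl (sub₁ (cst.comp (IsScalarTower.toAlgHom R A' B)) (X : B[X])) g₂ := by
  letI : Algebra A[X] B[X] := (mapRingHom (algebraMap A B)).toAlgebra
  letI : Algebra A'[X] B[X] := (mapRingHom (algebraMap A' B)).toAlgebra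
  have : IsScalarTower R A[X] B[X] := IsScalarTower.of_algebraMap_eq fun c => by
    simp [RingHom.algebraMap_toAlgebra, Polynomial.algebraMap_apply, ← IsScalarTower.algebraMap_apply]
  have : IsScalarTower R A'[X] B[X] := IsScalarTower.of_algebraMap_eq fun c => by
    simp [RingHom.algebraMap_toAlgebra, Polynomial.algebraMap_apply, ← IsScalarTower.algebraMap_apply]
  have hA : IsLocalization.Away (algebraMap Q A r') B := PatchLib.away_of_mul r r'
  have hA' : IsLocalization.Away (algebraMap Q A' r) B := by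
    have : IsLocalization.Away (r' * r) B := by rw [mul_comm]; infer_instance
    exact PatchLib.away_of_mul r' r
  have : IsLocalization.Away (C (algebraMap Q A r') : A[X]) B[X] := by
    have := Polynomial.isLocalization (Submonoid.powers (algebraMap Q A r')) B
    rwa [Submonoid.map_powers] at this
  have : IsLocalization.Away (C (algebraMap Q A' r) : A'[X]) B[X] := by
    have := Polynomial.isLocalization (Submonoid.powers (algebraMap Q A' r)) B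
    rwa [Submonoid.map_powers] at this
  let φ : Aut (pt s R1) (pt s B[X][X]) :=
    pl (sub₁ ((cst (S := B[X])).comp cst) (C X + X)) g *
      (pl ((cst (R := R) (S := B[X])).comp (AlgHom.id R B[X])) g)⁻¹
  have hφ0 : pl (sub₁ (AlgHom.id R B[X]) 0) φ = 1 := by
    rw [pl_mul, pl_inv, pl_pl, pl_pl]
    rw [show (sub₁ (AlgHom.id R B[X]) 0).comp (sub₁ ((cst (S := B[X])).comp cst) (C X + X)) =
      (sub₁ (AlgHom.id R B[X]) 0).comp ((cst (R := R) (S := B[X])).comp (AlgHom.id R B[X])) from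
      PatchLib.algHom_ext (fun s => by simp) (by simp), mul_inv_cancel]
  obtain ⟨N, φ₁, hφ₁0, hφ₁⟩ := exists_descend_aut (C (algebraMap Q A r') : A[X]) φ hφ0
  obtain ⟨M, φ₂, hφ₂0, hφ₂⟩ := exists_descend_aut (C (algebraMap Q A' r) : A'[X]) φ hφ0
  have hspan : Ideal.span ({r ^ M, r' ^ N} : Set Q) = ⊤ := by
    have hco : IsCoprime r r' := by
      rw [← Ideal.isCoprime_span_singleton_iff, Ideal.isCoprime_iff_sup_eq, ← Ideal.span_union]
      exact hrr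
    obtain ⟨a, b, hab⟩ := hco.pow (m := M) (n := N)
    exact (Ideal.eq_top_iff_one _).2 (Ideal.mem_span_pair.2 ⟨a, b, hab⟩)
  obtain ⟨a, b, hab⟩ := Ideal.mem_span_pair.1 ((Ideal.eq_top_iff_one _).1 hspan)
  let θ₁ : A[X][X] →ₐ[R] A[X] :=
    sub₁ (sub₁ cst (C (algebraMap Q A (a * r ^ M)) * X)) (C (algebraMap Q A b) * X)
  let θ₂ : A'[X][X] →ₐ[R] A'[X] := sub₁ (sub₁ cst 0) (C (algebraMap Q A' a) * X)
  refine ⟨pl θ₁ φ₁, pl θ₂ φ₂, ?_⟩
  let ε₁ : B[X][X] →ₐ[R] B[X] :=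
    sub₁ (sub₁ cst (C (algebraMap Q B (a * r ^ M)) * X)) (C (algebraMap Q B b) * X)
  let ε₂ : B[X][X] →ₐ[R] B[X] := sub₁ (sub₁ cst 0) (C (algebraMap Q B a) * X)
  let τ : B[X] →ₐ[R] B[X] := sub₁ cst (C (algebraMap Q B (a * r ^ M)) * X)
  let σ₁ : B[X][X] →ₐ[R] B[X] :=
    ε₁.comp (sub₁ cst (C (algebraMap A[X] B[X] (C (algebraMap Q A r')) ^ N) * X))
  have h₁ : pl (sub₁ (cst.comp (IsScalarTower.toAlgHom R A B)) (X : B[X])) (pl θ₁ φ₁) =
      g * (pl τ g)⁻¹ := by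
    rw [pl_pl,
      show (sub₁ (cst.comp (IsScalarTower.toAlgHom R A B)) (X : B[X])).comp θ₁ =
        ε₁.comp (sub₁ (cst.comp (IsScalarTower.toAlgHom R A[X] B[X])) (X : B[X][X])) from
        PatchLib.algHom_ext (fun s => by
          refine DFunLike.congr_fun (PatchLib.algHom_ext
            (f := ((sub₁ (cst.comp (IsScalarTower.toAlgHom R A B)) (X : B[X])).comp θ₁).comp cst)
            (g := (ε₁.comp (sub₁ (cst.comp (IsScalarTower.toAlgHom R A[X] B[X])) (X : B[X][X]))).comp cst)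
            (fun c => ?_) ?_) s <;>
          simp [θ₁, ε₁, RingHom.algebraMap_toAlgebra, ← IsScalarTower.algebraMap_apply, map_mul, map_pow]) (by
          simp [θ₁, ε₁, ← IsScalarTower.algebraMap_apply]),
      ← pl_pl, hφ₁, pl_pl, pl_mul, pl_inv, pl_pl, pl_pl]
    have e1 : σ₁.comp (sub₁ ((cst (S := B[X])).comp cst) (C X + X)) = AlgHom.id R B[X] := by
      refine PatchLib.algHom_ext (fun s => by simp [σ₁, ε₁]) ?_
      simp [σ₁, ε₁, RingHom.algebraMap_toAlgebra, ← IsScalarTower.algebraMap_apply, -map_mul, -map_pow]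
      simp only [map_mul, map_pow, PatchLib.sub₁_C, PatchLib.sub₁_X, PatchLib.cst_apply]
      have h := congrArg (fun t => (C : B →+* B[X]) (algebraMap Q B t) * X) hab
      simp only [map_add, map_mul, map_pow, map_one] at h
      linear_combination h
    have e2 : σ₁.comp ((cst (R := R) (S := B[X])).comp (AlgHom.id R B[X])) = τ := by
      refine PatchLib.algHom_ext (fun s => ?_) ?_ <;> simp [σ₁, ε₁, τ]
    show pl (σ₁.comp _) g * (pl (σ₁.comp _) g)⁻¹ = _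
    rw [e1, e2, pl_id]
  let σ₂' : B[X][X] →ₐ[R] B[X] :=
    ε₂.comp (sub₁ cst (C (algebraMap A'[X] B[X] (C (algebraMap Q A' r)) ^ M) * X))
  have h₂ : pl (sub₁ (cst.comp (IsScalarTower.toAlgHom R A' B)) (X : B[X])) (pl θ₂ φ₂) = pl τ g := by
    rw [pl_pl,
      show (sub₁ (cst.comp (IsScalarTower.toAlgHom R A' B)) (X : B[X])).comp θ₂ =
        ε₂.comp (sub₁ (cst.comp (IsScalarTower.toAlgHom R A'[X] B[X])) (X : B[X][X])) from
        PatchLib.algHom_ext (fun s => by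
          refine DFunLike.congr_fun (PatchLib.algHom_ext
            (f := ((sub₁ (cst.comp (IsScalarTower.toAlgHom R A' B)) (X : B[X])).comp θ₂).comp cst)
            (g := (ε₂.comp (sub₁ (cst.comp (IsScalarTower.toAlgHom R A'[X] B[X])) (X : B[X][X]))).comp cst)
            (fun c => ?_) ?_) s <;>
          simp [θ₂, ε₂, RingHom.algebraMap_toAlgebra, ← IsScalarTower.algebraMap_apply]) (by
          simp [θ₂, ε₂, ← IsScalarTower.algebraMap_apply]),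
      ← pl_pl, hφ₂, pl_pl, pl_mul, pl_inv, pl_pl, pl_pl]
    have e1 : σ₂'.comp (sub₁ ((cst (S := B[X])).comp cst) (C X + X)) = τ := by
      refine PatchLib.algHom_ext (fun s => by simp [σ₂', ε₂, τ]) ?_
      simp [σ₂', ε₂, τ, RingHom.algebraMap_toAlgebra, ← IsScalarTower.algebraMap_apply, map_mul, map_pow]
      ring
    have e2 : σ₂'.comp ((cst (R := R) (S := B[X])).comp (AlgHom.id R B[X])) =
        cst.comp (sub₁ (AlgHom.id R B) 0) := by
      refine PatchLib.algHom_ext (fun s => ?_) ?_ <;> simp [σ₂', ε₂]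
    show pl (σ₂'.comp _) g * (pl (σ₂'.comp _) g)⁻¹ = _
    rw [e1, e2, ← pl_pl, hg, pl_one, inv_one, _root_.mul_one]
  rw [h₁, h₂, inv_mul_cancel_right]

end Mul

end GrpPatchLib
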