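import Groth.Agent.GrpPatchLib.Rel

/-!
# Frames: isomorphisms of a group with the fibres of a family of groups
-/

set_option autoImplicit false
set_option backward.isDefEq.respectTransparency false
universe u

open CategoryTheory CategoryTheory.Limits MonoidalCategory CartesianMonoidalCategory AlgebraicGeometry
open scoped MonObj
open TorsPatchLib (push πp)

attribute [-instance] CategoryTheory.Hom.commGroup

noncomputable section

namespace GrpPatchLib

variable {S : Scheme.{u}}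

/-- Automorphisms of `H₀` parameterised by `W`. -/
structure Aut (H₀ : Over S) [GrpObj H₀] (W : Over S) where
  hom : H₀ ⊗ W ⟶ H₀
  inv : H₀ ⊗ W ⟶ H₀
  map_mul : ∀ {T : Over S} (a b : T ⟶ H₀) (v : T ⟶ W),
    lift (a * b) v ≫ hom = (lift a v ≫ hom) * (lift b v ≫ hom)
  hom_inv : lift inv (snd H₀ W) ≫ hom = fst H₀ W
  inv_hom : lift hom (snd H₀ W) ≫ inv = fst H₀ W

variable {H₀ : Over S} [GrpObj H₀] {W W' : Over S}

theorem lift_cc (k k' : H₀ ⊗ W ⟶ H₀) {T : Over S} (a : T ⟶ H₀) (v : T ⟶ W) :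
    lift a v ≫ lift k' (snd H₀ W) ≫ k = lift (lift a v ≫ k') v ≫ k := by
  rw [comp_lift_assoc, lift_snd]

theorem Aut.hom_inv_apply (k : Aut H₀ W) {T : Over S} (a : T ⟶ H₀) (v : T ⟶ W) :
    lift (lift a v ≫ k.inv) v ≫ k.hom = a := by
  rw [← lift_cc, k.hom_inv, lift_fst]

theorem Aut.inv_hom_apply (k : Aut H₀ W) {T : Over S} (a : T ⟶ H₀) (v : T ⟶ W) :
    lift (lift a v ≫ k.hom) v ≫ k.inv = a := by
  rw [← lift_cc, k.inv_hom, lift_fst]

@[ext]
theorem Aut.ext {k k' : Aut H₀ W} (h : k.hom = k'.hom) : k = k' := by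
  have h' : k.inv = k'.inv := by
    have e := congrArg (fun t => lift t (snd H₀ W) ≫ k'.inv) (k.hom_inv_apply (fst H₀ W) (snd H₀ W))
    simp only [lift_fst_snd, Category.id_comp] at e
    rw [h, k'.inv_hom_apply] at e
    exact e
  cases k; cases k'; subst h; subst h'; rfl

instance : One (Aut H₀ W) :=
  ⟨⟨fst _ _, fst _ _, fun a b v => by simp only [lift_fst], by simp, by simp⟩⟩

instance : Mul (Aut H₀ W) :=
  ⟨fun k k' => ⟨lift k'.hom (snd _ _) ≫ k.hom, lift k.inv (snd _ _) ≫ k'.inv,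
    fun a b v => by simp only [lift_cc, k'.map_mul, k.map_mul],
    by rw [comp_lift_assoc, lift_snd, k'.hom_inv_apply, k.hom_inv],
    by rw [comp_lift_assoc, lift_snd, k.inv_hom_apply, k'.inv_hom]⟩⟩

instance : Inv (Aut H₀ W) :=
  ⟨fun k => ⟨k.inv, k.hom, fun a b v => by
    have h := congrArg (fun t => lift t v ≫ k.inv) (k.map_mul (lift a v ≫ k.inv) (lift b v ≫ k.inv) v)
    simp only [k.inv_hom_apply, k.hom_inv_apply] at h
    exact h.symm, k.inv_hom, k.hom_inv⟩⟩

theorem Aut.one_hom : (1 : Aut H₀ W).hom = fst _ _ := rfl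

theorem Aut.mul_apply (k k' : Aut H₀ W) {T : Over S} (a : T ⟶ H₀) (v : T ⟶ W) :
    lift a v ≫ (k * k').hom = lift (lift a v ≫ k'.hom) v ≫ k.hom := lift_cc k.hom k'.hom a v

theorem Aut.one_apply {T : Over S} (a : T ⟶ H₀) (v : T ⟶ W) : lift a v ≫ (1 : Aut H₀ W).hom = a := lift_fst _ _

theorem Aut.ext_apply {k k' : Aut H₀ W}
    (h : ∀ (T : Over S) (a : T ⟶ H₀) (v : T ⟶ W), lift a v ≫ k.hom = lift a v ≫ k'.hom) : k = k' := by
  refine Aut.ext ?_
  have := h _ (fst H₀ W) (snd H₀ W)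
  simpa only [lift_fst_snd, Category.id_comp] using this

instance : Group (Aut H₀ W) :=
  Group.ofLeftAxioms (fun a b c => Aut.ext_apply fun T x v => by simp only [Aut.mul_apply])
    (fun a => Aut.ext_apply fun T x v => by rw [Aut.mul_apply, Aut.one_apply])
    (fun a => Aut.ext_apply fun T x v => by
      rw [Aut.mul_apply, Aut.one_apply]
      exact a.inv_hom_apply x v)

/-- Pullback of automorphisms. -/
def Aut.pull (k : Aut H₀ W) (f : W' ⟶ W) : Aut H₀ W' where
  hom := (H₀ ◁ f) ≫ k.hom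
  inv := (H₀ ◁ f) ≫ k.inv
  map_mul a b v := by simp only [lift_whiskerLeft_assoc, k.map_mul]
  hom_inv := by rw [lift_whiskerLeft_assoc, ← whiskerLeft_snd, ← comp_lift_assoc, k.hom_inv, whiskerLeft_fst]
  inv_hom := by rw [lift_whiskerLeft_assoc, ← whiskerLeft_snd, ← comp_lift_assoc, k.inv_hom, whiskerLeft_fst]

theorem Aut.pull_apply (k : Aut H₀ W) (f : W' ⟶ W) {T : Over S} (a : T ⟶ H₀) (v : T ⟶ W') :
    lift a v ≫ (k.pull f).hom = lift a (v ≫ f) ≫ k.hom := lift_whiskerLeft_assoc _ _ _ _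

theorem Aut.pull_mul (k k' : Aut H₀ W) (f : W' ⟶ W) : (k * k').pull f = k.pull f * k'.pull f :=
  Aut.ext_apply fun T a v => by simp only [Aut.pull_apply, Aut.mul_apply]

theorem Aut.pull_one (f : W' ⟶ W) : (1 : Aut H₀ W).pull f = 1 :=
  Aut.ext_apply fun T a v => by simp only [Aut.pull_apply, Aut.one_apply]

theorem Aut.pull_inv (k : Aut H₀ W) (f : W' ⟶ W) : k⁻¹.pull f = (k.pull f)⁻¹ :=
  eq_inv_of_mul_eq_one_left (by rw [← Aut.pull_mul, inv_mul_cancel, Aut.pull_one])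

/-! ### Frames -/

variable {V₀ : Scheme.{u}} (p : V₀ ⟶ S) (H : Over V₀) [GrpObj H]

/-- A group isomorphic to the fibre of `H` at a point `zero`. -/
structure Fam (H₀ : Over S) [GrpObj H₀] where
  zero : 𝟙_ (Over S) ⟶ Over.mk p
  x₀ : H₀ ⟶ push p H
  x₀π : x₀ ≫ πp p H = toUnit _ ≫ zero
  x₀_mul : ∀ {T : Over S} (a b : T ⟶ H₀), RM p (a ≫ x₀) (b ≫ x₀) ((a * b) ≫ x₀)
  x₀_bij : ∀ {T : Over S} (x : T ⟶ push p H), x ≫ πp p H = toUnit _ ≫ zero → ∃! a : T ⟶ H₀, a ≫ x₀ = x

variable {p H} (D : Fam p H H₀)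

/-- Isomorphisms of `H₀` with the fibres along `w`. -/
structure IsFrame (D : Fam p H H₀) {W : Over S} (w : W ⟶ Over.mk p) (y : H₀ ⊗ W ⟶ push p H) : Prop where
  π_eq : y ≫ πp p H = snd _ _ ≫ w
  mul : ∀ {T : Over S} (a b : T ⟶ H₀) (v : T ⟶ W),
    RM p (lift a v ≫ y) (lift b v ≫ y) (lift (a * b) v ≫ y)
  bij : ∀ {T : Over S} (v : T ⟶ W) (x : T ⟶ push p H), x ≫ πp p H = v ≫ w → ∃! a : T ⟶ H₀, lift a v ≫ y = x

variable {D} {w : W ⟶ Over.mk p} {y y' : H₀ ⊗ W ⟶ push p H}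

theorem IsFrame.apply_π (hy : IsFrame D w y) {T : Over S} (a : T ⟶ H₀) (v : T ⟶ W) :
    (lift a v ≫ y) ≫ πp p H = v ≫ w := by
  rw [Category.assoc, hy.π_eq, lift_snd_assoc]

theorem IsFrame.injective (hy : IsFrame D w y) {T : Over S} {a b : T ⟶ H₀} {v : T ⟶ W}
    (h : lift a v ≫ y = lift b v ≫ y) : a = b :=
  (hy.bij v _ (hy.apply_π b v)).unique h rfl

theorem IsFrame.pull (hy : IsFrame D w y) (f : W' ⟶ W) {w' : W' ⟶ Over.mk p} (hw : f ≫ w = w') :
    IsFrame D w' ((H₀ ◁ f) ≫ y) where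
  π_eq := by rw [Category.assoc, hy.π_eq, whiskerLeft_snd_assoc, hw]
  mul a b v := by simp only [lift_whiskerLeft_assoc]; exact hy.mul a b (v ≫ f)
  bij v x h := by
    simp only [lift_whiskerLeft_assoc]
    exact hy.bij (v ≫ f) x (by rw [h, ← hw, Category.assoc])

theorem isFrame_zero : IsFrame D (toUnit W ≫ D.zero) (fst H₀ W ≫ D.x₀) where
  π_eq := by rw [Category.assoc, D.x₀π, comp_toUnit_assoc, comp_toUnit_assoc]
  mul a b v := by simp only [lift_fst_assoc]; exact D.x₀_mul a b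
  bij v x h := by
    simp only [lift_fst_assoc]
    exact D.x₀_bij x (by rw [h, comp_toUnit_assoc])

/-- The action of automorphisms on frames. -/
def act (k : Aut H₀ W) (y : H₀ ⊗ W ⟶ push p H) : H₀ ⊗ W ⟶ push p H := lift k.hom (snd H₀ W) ≫ y

theorem act_apply (k : Aut H₀ W) (y : H₀ ⊗ W ⟶ push p H) {T : Over S} (a : T ⟶ H₀) (v : T ⟶ W) :
    lift a v ≫ act k y = lift (lift a v ≫ k.hom) v ≫ y := by
  rw [act, comp_lift_assoc, lift_snd]

theorem act_mul (k k' : Aut H₀ W) (y : H₀ ⊗ W ⟶ push p H) : act (k * k') y = act k' (act k y) := by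
  have h := act_apply k y (k'.hom) (snd H₀ W)
  show lift (k * k').hom (snd _ _) ≫ y = lift k'.hom (snd _ _) ≫ act k y
  rw [h]
  rfl

theorem act_one (y : H₀ ⊗ W ⟶ push p H) : act 1 y = y := by
  rw [act, Aut.one_hom, lift_fst_snd, Category.id_comp]

theorem pull_act (k : Aut H₀ W) (f : W' ⟶ W) (y : H₀ ⊗ W ⟶ push p H) :
    (H₀ ◁ f) ≫ act k y = act (k.pull f) ((H₀ ◁ f) ≫ y) := by
  rw [act, act, lift_whiskerLeft_assoc, comp_lift_assoc, whiskerLeft_snd]
  rfl

theorem IsFrame.act (hy : IsFrame D w y) (k : Aut H₀ W) : IsFrame D w (GrpPatchLib.act k y) where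
  π_eq := by rw [GrpPatchLib.act, Category.assoc, hy.π_eq, lift_snd_assoc]
  mul a b v := by simp only [act_apply, k.map_mul]; exact hy.mul _ _ v
  bij v x h := by
    obtain ⟨a, ha, hu⟩ := hy.bij v x h
    refine ⟨lift a v ≫ k.inv, ?_, fun b hb => ?_⟩
    · simp only [act_apply, k.hom_inv_apply]
      exact ha
    · simp only [act_apply] at hb
      rw [← hu _ hb, k.inv_hom_apply]

theorem IsFrame.act_injective (hy : IsFrame D w y) {k k' : Aut H₀ W}
    (h : GrpPatchLib.act k y = GrpPatchLib.act k' y) : k = k' :=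
  Aut.ext (hy.injective (v := snd H₀ W) h)

theorem IsFrame.exists_trans (hy : IsFrame D w y) (hy' : IsFrame D w y') :
    ∃ k : Aut H₀ W, GrpPatchLib.act k y = y' := by
  obtain ⟨k, hk, -⟩ := hy.bij (snd H₀ W) y' hy'.π_eq
  obtain ⟨k', hk', -⟩ := hy'.bij (snd H₀ W) y hy.π_eq
  have hkv : ∀ {T : Over S} (a : T ⟶ H₀) (v : T ⟶ W), lift (lift a v ≫ k) v ≫ y = lift a v ≫ y' := fun a v => by
    have h := congrArg (lift a v ≫ ·) hk
    simpa only [comp_lift_assoc, lift_snd] using h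
  have hkv' : ∀ {T : Over S} (a : T ⟶ H₀) (v : T ⟶ W), lift (lift a v ≫ k') v ≫ y' = lift a v ≫ y := fun a v => by
    have h := congrArg (lift a v ≫ ·) hk'
    simpa only [comp_lift_assoc, lift_snd] using h
  refine ⟨⟨k, k', fun a b v => hy.injective (v := v) ?_, hy.injective (v := snd H₀ W) ?_,
    hy'.injective (v := snd H₀ W) ?_⟩, hk⟩
  · obtain h := hy.mul (lift a v ≫ k) (lift b v ≫ k) v
    rw [hkv, hkv] at h
    rw [hkv]
    exact (hy'.mul a b v).unique h
  · rw [hkv, hk', lift_fst_snd, Category.id_comp]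
  · rw [hkv', hk, lift_fst_snd, Category.id_comp]

/-- Normalisation at zero. -/
theorem IsFrame.normalise (hy : IsFrame D w y) (e : W ⟶ W) (hee : e ≫ e = e)
    (he : e ≫ w = toUnit W ≫ D.zero) :
    ∃ y', IsFrame D w y' ∧ (H₀ ◁ e) ≫ y' = fst H₀ W ≫ D.x₀ := by
  obtain ⟨k, hk⟩ := (hy.pull e he).exists_trans isFrame_zero
  refine ⟨GrpPatchLib.act (k.pull e) y, hy.act _, ?_⟩
  have h := congrArg ((H₀ ◁ e) ≫ ·) hk
  simp only [pull_act, whiskerLeft_fst_assoc] at h
  rw [← Category.assoc (H₀ ◁ e) (H₀ ◁ e), ← MonoidalCategory.whiskerLeft_comp, hee] at h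
  rw [pull_act, show (k.pull e).pull e = k.pull e from Aut.ext_apply fun T a v => by
    simp only [Aut.pull_apply, Category.assoc, hee]]
  exact h

/-! ### Gluing -/

section Glue

open TorsPatchLib (exists_pullback_cover exists_over ext_over)

variable {J : Type u} {Wi : J → Over S} (f : ∀ i, Wi i ⟶ W) [∀ i, IsOpenImmersion (f i).left]
  (hs : ∀ x : W.left, ∃ i, x ∈ Set.range (f i).left)

include hs in
/-- Frames glue. -/
theorem glue_frame (y : ∀ i, H₀ ⊗ Wi i ⟶ push p H) (hy : ∀ i, IsFrame D (f i ≫ w) (y i))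
    (hc : ∀ i j (T : Over S) (t : T ⟶ H₀) (a : T ⟶ Wi i) (b : T ⟶ Wi j), a ≫ f i = b ≫ f j →
      lift t a ≫ y i = lift t b ≫ y j) : ∃ y', IsFrame D w y' := by
  obtain ⟨Z, c, a, hco, hcs, hca⟩ := exists_pullback_cover f hs (snd H₀ W)
  obtain ⟨y', hy'⟩ := exists_over c hcs (fun i => lift (c i ≫ fst _ _) (a i) ≫ y i) fun i j T p' q h => by
    simp only [comp_lift_assoc]
    rw [show p' ≫ c i ≫ fst H₀ W = q ≫ c j ≫ fst H₀ W from by rw [← Category.assoc, h, Category.assoc]]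
    refine hc i j T _ _ _ ?_
    rw [Category.assoc, Category.assoc, ← hca, ← hca, ← Category.assoc, h, Category.assoc]
  have key : ∀ i {T : Over S} (t : T ⟶ H₀) (b : T ⟶ Wi i), lift t (b ≫ f i) ≫ y' = lift t b ≫ y i := by
    intro i T t b
    obtain ⟨U, c', a', hco', hcs', hca'⟩ := exists_pullback_cover c hcs (lift t (b ≫ f i))
    refine ext_over c' hcs' fun j => ?_
    rw [← Category.assoc, hca', Category.assoc, hy', comp_lift_assoc, comp_lift_assoc,
      show a' j ≫ c j ≫ fst H₀ W = c' j ≫ t by rw [← Category.assoc, ← hca', Category.assoc, lift_fst]]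
    refine hc j i (U j) _ _ _ ?_
    rw [Category.assoc, Category.assoc, ← hca, ← Category.assoc, ← hca', Category.assoc, lift_snd]
  have hover : y' ≫ πp p H = snd _ _ ≫ w := ext_over c hcs fun i => by
    rw [← Category.assoc, hy', Category.assoc, (hy i).π_eq, lift_snd_assoc, ← Category.assoc, ← hca,
      Category.assoc]
  refine ⟨y', hover, fun {T} a b v => ?_, fun {T} v x hx => ?_⟩
  · obtain ⟨U, c', a', hco', hcs', hca'⟩ := exists_pullback_cover f hs v
    obtain ⟨x'', hx''⟩ := exists_rm (x := lift a v ≫ y') (x' := lift b v ≫ y')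
      (by simp only [Category.assoc, hover, lift_snd_assoc])
    suffices x'' = lift (a * b) v ≫ y' from this ▸ hx''
    refine ext_over c' hcs' fun i => ?_
    refine (hx''.comp (c' i)).unique ?_
    simp only [comp_lift_assoc, hca', key, MonObj.comp_mul]
    exact (hy i).mul _ _ _
  · obtain ⟨U, c', a', hco', hcs', hca'⟩ := exists_pullback_cover f hs v
    have hxi : ∀ i, (c' i ≫ x) ≫ πp p H = a' i ≫ f i ≫ w := fun i => by
      rw [Category.assoc, hx, ← Category.assoc, hca', Category.assoc]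
    choose ai hai huni using fun i => (hy i).bij (a' i) (c' i ≫ x) (hxi i)
    obtain ⟨a, ha⟩ := exists_over c' hcs' ai fun i j Z p' q h => by
      have hp : p' ≫ a' i ≫ f i = q ≫ a' j ≫ f j := by
        rw [← hca', ← hca', ← Category.assoc, h, Category.assoc]
      refine (hy i).injective (v := p' ≫ a' i) ?_
      conv_rhs => rw [← key, Category.assoc, hp, ← Category.assoc, key, ← comp_lift_assoc, hai]
      rw [← comp_lift_assoc, hai, ← Category.assoc, h, Category.assoc]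
    refine ⟨a, ext_over c' hcs' fun i => ?_, fun b hb => ext_over c' hcs' fun i => ?_⟩
    · rw [comp_lift_assoc, hca', key, ha, hai]
    · rw [ha]
      refine huni i _ ?_
      simp only [← key, ← hca', ← comp_lift_assoc, hb]

end Glue

end GrpPatchLib
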