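import Groth.Agent.GrpPatchLib.Frame

/-!
# Groups descending along an open and frames
-/

set_option autoImplicit false
set_option backward.isDefEq.respectTransparency false
universe u

open CategoryTheory CategoryTheory.Limits MonoidalCategory CartesianMonoidalCategory AlgebraicGeometry
open scoped MonObj
open TorsPatchLib (push πp prBC prBC₀ zeroPt toUnit_zeroPt bcPoint bcPoint_fst bcPoint_snd bc_point_ext W0 w0 v0 z0 z0_w0 map_πp)

attribute [-instance] CategoryTheory.Hom.commGroup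

noncomputable section

namespace GrpPatchLib

variable {S V₀ : Scheme.{u}} {p : V₀ ⟶ S} (z : S ⟶ V₀) (hz : z ≫ p = 𝟙 S) (H : Over V₀) [GrpObj H]

/-- The fibre at the section in the family. -/
def inc : Red.bc z H ⟶ push p H :=
  Over.homMk (pullback.fst H.hom z) (by
    show pullback.fst H.hom z ≫ H.hom ≫ p = pullback.snd H.hom z
    rw [pullback.condition_assoc, hz]
    exact Category.comp_id _)

theorem inc_π : inc z hz H ≫ πp p H = toUnit _ ≫ zeroPt z hz := by
  refine Over.OverMorphism.ext ?_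
  rw [toUnit_zeroPt]
  exact pullback.condition

theorem existsUnique_inc {T : Over S} (x : T ⟶ push p H) (hx : x ≫ πp p H = toUnit _ ≫ zeroPt z hz) :
    ∃! a : T ⟶ Red.bc z H, a ≫ inc z hz H = x := by
  have h : x.left ≫ H.hom = T.hom ≫ z := (congrArg Over.Hom.left hx).trans (toUnit_zeroPt z hz)
  refine ⟨Over.homMk (pullback.lift x.left T.hom h) (pullback.lift_snd _ _ _),
    Over.OverMorphism.ext (pullback.lift_fst _ _ _), fun b hb => Over.OverMorphism.ext (pullback.hom_ext ?_ ?_)⟩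
  · exact (congrArg Over.Hom.left hb).trans (pullback.lift_fst _ _ _).symm
  · exact (Over.w b).trans (pullback.lift_snd _ _ _).symm

variable {H₀ : Over S} [GrpObj H₀] (e : H₀ ≅ Red.bc z H) [IsMonHom e.hom]

/-- The family of fibres of a group. -/
def fam : Fam p H H₀ where
  zero := zeroPt z hz
  x₀ := e.hom ≫ inc z hz H
  x₀π := by rw [Category.assoc, inc_π, comp_toUnit_assoc]
  x₀_mul a b := by
    simp only [← Category.assoc, MonObj.mul_comp]
    exact rm_section z hz (inc z hz H) rfl _ _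
  x₀_bij x hx := by
    obtain ⟨a, ha, hu⟩ := existsUnique_inc z hz H x hx
    refine ⟨a ≫ e.inv, by simp [ha], fun b (hb : b ≫ e.hom ≫ inc z hz H = x) => ?_⟩
    rw [← hu (b ≫ e.hom) ((Category.assoc _ _ _).trans hb), Category.assoc, Iso.hom_inv_id, Category.comp_id]

variable {V₁ : Scheme.{u}} (j : V₁ ⟶ S)

/-- There is a frame along `j`. -/
def HasFrame : Prop :=
  ∃ y : H₀ ⊗ W0 p j ⟶ push p H, IsFrame (fam z hz H e) (w0 p j) y

section Desc

variable {z hz H e j} {P : Over V₁} [GrpObj P] (E : Red.bc (pullback.snd p j) P ≅ Red.bc (pullback.fst p j) H)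
  {T T' : Over S}

/-- Transfer of a point of the family to the descended group. -/
def fw (x : T ⟶ push p H) (v : T ⟶ W0 p j) (h : x ≫ πp p H = v ≫ w0 p j) : T ⟶ push j P :=
  bcPoint p (pullback.fst p j) (d := pullback.snd p j ≫ j) pullback.condition x v (congrArg Over.Hom.left h) ≫
    (Over.map (pullback.snd p j ≫ j)).map E.inv ≫ prBC j (pullback.snd p j) rfl P

/-- Transfer of a point of the descended group to the family. -/
def bw (b : T ⟶ push j P) (v : T ⟶ W0 p j) (h : b ≫ πp j P = v ≫ v0 p j) : T ⟶ push p H :=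
  bcPoint j (pullback.snd p j) (d := pullback.snd p j ≫ j) rfl b v (congrArg Over.Hom.left h) ≫
    (Over.map (pullback.snd p j ≫ j)).map E.hom ≫ prBC p (pullback.fst p j) pullback.condition H

theorem pr₂_π : prBC j (pullback.snd p j) rfl P ≫ πp j P =
    πp (pullback.snd p j ≫ j) (Red.bc (pullback.snd p j) P) ≫ v0 p j :=
  Over.OverMorphism.ext pullback.condition

theorem pr₁_π : prBC p (pullback.fst p j) pullback.condition H ≫ πp p H =
    πp (pullback.snd p j ≫ j) (Red.bc (pullback.fst p j) H) ≫ w0 p j :=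
  Over.OverMorphism.ext pullback.condition

theorem fw_π (x : T ⟶ push p H) (v : T ⟶ W0 p j) (h : x ≫ πp p H = v ≫ w0 p j) :
    fw E x v h ≫ πp j P = v ≫ v0 p j := by
  rw [fw, Category.assoc, Category.assoc, pr₂_π, ← Category.assoc ((Over.map _).map E.inv), map_πp,
    ← Category.assoc]
  exact congrArg (· ≫ v0 p j) (bcPoint_snd _ _ _ _ _ _)

theorem bw_π (b : T ⟶ push j P) (v : T ⟶ W0 p j) (h : b ≫ πp j P = v ≫ v0 p j) :
    bw E b v h ≫ πp p H = v ≫ w0 p j := by
  rw [bw, Category.assoc, Category.assoc, pr₁_π, ← Category.assoc ((Over.map _).map E.hom), map_πp,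
    ← Category.assoc]
  exact congrArg (· ≫ w0 p j) (bcPoint_snd _ _ _ _ _ _)

theorem fw_congr {x x' : T ⟶ push p H} {v v' : T ⟶ W0 p j} (hx : x = x') (hv : v = v')
    (h : x ≫ πp p H = v ≫ w0 p j) (h' : x' ≫ πp p H = v' ≫ w0 p j) : fw E x v h = fw E x' v' h' := by
  subst hx; subst hv; rfl

theorem bw_congr {x x' : T ⟶ push j P} {v v' : T ⟶ W0 p j} (hx : x = x') (hv : v = v')
    (h : x ≫ πp j P = v ≫ v0 p j) (h' : x' ≫ πp j P = v' ≫ v0 p j) : bw E x v h = bw E x' v' h' := by
  subst hx; subst hv; rfl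

theorem fw_bw (b : T ⟶ push j P) (v : T ⟶ W0 p j) (h : b ≫ πp j P = v ≫ v0 p j)
    (h' : bw E b v h ≫ πp p H = v ≫ w0 p j) : fw E (bw E b v h) v h' = b := by
  have e1 : bcPoint p (pullback.fst p j) (d := pullback.snd p j ≫ j) pullback.condition (bw E b v h) v
      (congrArg Over.Hom.left h') =
      bcPoint j (pullback.snd p j) (d := pullback.snd p j ≫ j) rfl b v (congrArg Over.Hom.left h) ≫
        (Over.map _).map E.hom :=
    bc_point_ext p _ pullback.condition H (by rw [bcPoint_fst, bw, Category.assoc])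
      (by rw [bcPoint_snd, Category.assoc, map_πp, bcPoint_snd])
  rw [fw, e1, Category.assoc, ← Category.assoc ((Over.map _).map E.hom), ← Functor.map_comp, Iso.hom_inv_id,
    CategoryTheory.Functor.map_id, Category.id_comp]
  exact bcPoint_fst _ _ _ _ _ _

theorem bw_fw (x : T ⟶ push p H) (v : T ⟶ W0 p j) (h : x ≫ πp p H = v ≫ w0 p j)
    (h' : fw E x v h ≫ πp j P = v ≫ v0 p j) : bw E (fw E x v h) v h' = x := by
  have e1 : bcPoint j (pullback.snd p j) (d := pullback.snd p j ≫ j) rfl (fw E x v h) v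
      (congrArg Over.Hom.left h') =
      bcPoint p (pullback.fst p j) (d := pullback.snd p j ≫ j) pullback.condition x v (congrArg Over.Hom.left h) ≫
        (Over.map _).map E.inv :=
    bc_point_ext j _ rfl P (by rw [bcPoint_fst, fw, Category.assoc])
      (by rw [bcPoint_snd, Category.assoc, map_πp, bcPoint_snd])
  rw [bw, e1, Category.assoc, ← Category.assoc ((Over.map _).map E.inv), ← Functor.map_comp, Iso.inv_hom_id,
    CategoryTheory.Functor.map_id, Category.id_comp]
  exact bcPoint_fst _ _ _ _ _ _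

theorem fw_comp (f : T' ⟶ T) (x : T ⟶ push p H) (v : T ⟶ W0 p j) (h : x ≫ πp p H = v ≫ w0 p j) :
    f ≫ fw E x v h = fw E (f ≫ x) (f ≫ v) (by rw [Category.assoc, h, Category.assoc]) := by
  rw [fw, fw, ← Category.assoc]
  congr 1
  exact bc_point_ext p _ pullback.condition H (by rw [bcPoint_fst, Category.assoc, bcPoint_fst])
    (by rw [bcPoint_snd, Category.assoc, bcPoint_snd])

theorem bw_comp (f : T' ⟶ T) (x : T ⟶ push j P) (v : T ⟶ W0 p j) (h : x ≫ πp j P = v ≫ v0 p j) :
    f ≫ bw E x v h = bw E (f ≫ x) (f ≫ v) (by rw [Category.assoc, h, Category.assoc]) := by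
  rw [bw, bw, ← Category.assoc]
  congr 1
  exact bc_point_ext j _ rfl P (by rw [bcPoint_fst, Category.assoc, bcPoint_fst])
    (by rw [bcPoint_snd, Category.assoc, bcPoint_snd])

variable [IsMonHom E.hom]

theorem fw_mul {x x' x'' : T ⟶ push p H} {v : T ⟶ W0 p j} (h : x ≫ πp p H = v ≫ w0 p j)
    (h' : x' ≫ πp p H = v ≫ w0 p j) (h'' : x'' ≫ πp p H = v ≫ w0 p j) (hm : RM p x x' x'') :
    RM j (fw E x v h) (fw E x' v h') (fw E x'' v h'') := by
  haveI : IsMonHom E.inv := inferInstance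
  have h1 : RM (pullback.snd p j ≫ j)
      (bcPoint p (pullback.fst p j) (d := pullback.snd p j ≫ j) pullback.condition x v (congrArg Over.Hom.left h))
      (bcPoint p (pullback.fst p j) (d := pullback.snd p j ≫ j) pullback.condition x' v (congrArg Over.Hom.left h'))
      (bcPoint p (pullback.fst p j) (d := pullback.snd p j ≫ j) pullback.condition x'' v (congrArg Over.Hom.left h'')) :=
    RM.of_prBC (f := p) _ pullback.condition (by simpa only [bcPoint_fst] using hm) (by simp only [bcPoint_snd])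
      (by simp only [bcPoint_snd])
  have h2 := (h1.map E.inv).prBC (f := j) (pullback.snd p j) rfl
  simp only [Category.assoc] at h2
  exact h2

theorem bw_mul {x x' x'' : T ⟶ push j P} {v : T ⟶ W0 p j} (h : x ≫ πp j P = v ≫ v0 p j)
    (h' : x' ≫ πp j P = v ≫ v0 p j) (h'' : x'' ≫ πp j P = v ≫ v0 p j) (hm : RM j x x' x'') :
    RM p (bw E x v h) (bw E x' v h') (bw E x'' v h'') := by
  have h1 : RM (pullback.snd p j ≫ j)
      (bcPoint j (pullback.snd p j) (d := pullback.snd p j ≫ j) rfl x v (congrArg Over.Hom.left h))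
      (bcPoint j (pullback.snd p j) (d := pullback.snd p j ≫ j) rfl x' v (congrArg Over.Hom.left h'))
      (bcPoint j (pullback.snd p j) (d := pullback.snd p j ≫ j) rfl x'' v (congrArg Over.Hom.left h'')) :=
    RM.of_prBC (f := j) _ rfl (by simpa only [bcPoint_fst] using hm) (by simp only [bcPoint_snd])
      (by simp only [bcPoint_snd])
  have h2 := (h1.map E.hom).prBC (f := p) (pullback.fst p j) pullback.condition
  simp only [Category.assoc] at h2
  exact h2

end Desc

/-- A group descending along `j` has a frame. -/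
theorem hasFrame_of_desc (P : Over V₁) [GrpObj P] (E : Red.bc (pullback.snd p j) P ≅ Red.bc (pullback.fst p j) H)
    [IsMonHom E.hom] : HasFrame z hz H e j := by
  let D := fam z hz H e
  have hz0 : ∀ {T : Over S} (v : T ⟶ W0 p j),
      (v ≫ v0 p j ≫ z0 z hz j) ≫ w0 p j = toUnit T ≫ zeroPt z hz := fun v => by
    simp only [Category.assoc, z0_w0, comp_toUnit_assoc]
  have hq : ∀ {T : Over S} (v : T ⟶ W0 p j), (v ≫ v0 p j ≫ z0 z hz j) ≫ v0 p j = v ≫ v0 p j := fun v => by
    rw [Category.assoc, Category.assoc,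
      show z0 z hz j ≫ v0 p j = 𝟙 _ from Over.OverMorphism.ext (pullback.lift_snd _ _ _), Category.comp_id]
  have hx : ∀ {T : Over S} (a : T ⟶ H₀) (v : T ⟶ W0 p j),
      (a ≫ D.x₀) ≫ πp p H = (v ≫ v0 p j ≫ z0 z hz j) ≫ w0 p j := fun a v => by
    rw [hz0, Category.assoc, D.x₀π, comp_toUnit_assoc]; rfl
  let F : ∀ {T : Over S} (_ : T ⟶ H₀) (_ : T ⟶ W0 p j), T ⟶ push p H := fun a v =>
    bw E (fw E (a ≫ D.x₀) _ (hx a v)) v ((fw_π E _ _ _).trans (hq v))
  let y : H₀ ⊗ W0 p j ⟶ push p H := F (fst _ _) (snd _ _)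
  have hy : ∀ {T : Over S} (a : T ⟶ H₀) (v : T ⟶ W0 p j), lift a v ≫ y = F a v := fun a v => by
    refine (bw_comp E _ _ _ _).trans (bw_congr E ((fw_comp E _ _ _ _).trans (fw_congr E ?_ ?_ _ _)) (lift_snd _ _) _ _)
    · rw [lift_fst_assoc]
    · rw [lift_snd_assoc]
  refine ⟨y, bw_π E _ _ _, fun a b v => ?_, fun {T} v x h => ?_⟩
  · simp only [hy]
    exact bw_mul E _ _ _ (fw_mul E _ _ _ (D.x₀_mul a b))
  · have hb : fw E x v h ≫ πp j P = (v ≫ v0 p j ≫ z0 z hz j) ≫ v0 p j := (fw_π E x v h).trans (hq v).symm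
    obtain ⟨a, ha, hu⟩ := D.x₀_bij (bw E (fw E x v h) _ hb) ((bw_π E _ _ _).trans (hz0 v))
    have key : ∀ a' : T ⟶ H₀, lift a' v ≫ y = x ↔ a' ≫ D.x₀ = bw E (fw E x v h) _ hb := fun a' => by
      rw [hy]
      constructor
      · intro h'
        have e1 : fw E (a' ≫ D.x₀) _ (hx a' v) = fw E x v h :=
          (fw_bw E _ v ((fw_π E _ _ _).trans (hq v)) (bw_π E _ _ _)).symm.trans (fw_congr E h' rfl _ _)
        exact (bw_fw E _ _ (hx a' v) (fw_π E _ _ _)).symm.trans (bw_congr E e1 rfl _ _)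
      · intro h'
        have e1 : fw E (a' ≫ D.x₀) _ (hx a' v) = fw E x v h :=
          (fw_congr E h' rfl _ (bw_π E _ _ _)).trans (fw_bw E _ _ hb _)
        exact (bw_congr E e1 rfl _ (fw_π E x v h)).trans (bw_fw E x v h _)
    exact ⟨a, (key a).2 ha, fun b hb' => hu b ((key b).1 hb')⟩

/-- A frame on the whole base gives an isomorphism of groups. -/
theorem exists_iso (y : H₀ ⊗ Over.mk p ⟶ push p H) (hy : IsFrame (fam z hz H e) (𝟙 (Over.mk p)) y) :
    ∃ φ : Red.bc p H₀ ≅ H, IsMonHom φ.hom := by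
  let β : push p (Red.bc p H₀) ⟶ push p H := lift (prBC₀ p H₀) (πp p _) ≫ y
  have hβ : β ≫ πp p H = πp p _ := (hy.apply_π _ _).trans (Category.comp_id _)
  let φ : Red.bc p H₀ ⟶ H := Over.homMk β.left (congrArg Over.Hom.left hβ)
  have hφ : (Over.map p).map φ = β := Over.OverMorphism.ext rfl
  have hom_mul : ∀ (U : Over V₀) (a b : U ⟶ Red.bc p H₀), (a * b) ≫ φ = (a ≫ φ) * (b ≫ φ) := by
    intro U a b
    let T : Over S := (Over.map p).obj U
    let m := (Over.map p).map (X := U) (Y := Red.bc p H₀)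
    have hπ : ∀ c : U ⟶ Red.bc p H₀, m c ≫ πp p _ = (Over.homMk U.hom rfl : T ⟶ Over.mk p) := fun c =>
      Over.OverMorphism.ext (Over.w c)
    have hr : RM p (m a) (m b) (m (a * b)) :=
      ⟨U.hom, a, b, rfl, rfl, rfl⟩
    have h0 : (m a ≫ prBC₀ p H₀) * (m b ≫ prBC₀ p H₀) = m (a * b) ≫ prBC₀ p H₀ := hr.prBC₀
    have h1 := hy.mul (m a ≫ prBC₀ p H₀) (m b ≫ prBC₀ p H₀) (Over.homMk U.hom rfl : T ⟶ Over.mk p)
    have hc : ∀ c : U ⟶ Red.bc p H₀, lift (m c ≫ prBC₀ p H₀) (Over.homMk U.hom rfl : T ⟶ Over.mk p) ≫ y =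
        (Over.map p).map (c ≫ φ) := fun c => by
      rw [Functor.map_comp, hφ, ← hπ c, ← comp_lift, Category.assoc]
    rw [h0, hc, hc, hc] at h1
    obtain ⟨u, c, c', h2, h3, h4⟩ := h1
    have hu : u = U.hom := by
      have hc1 : c.left ≫ H.hom = u := Over.w c
      rw [← hc1, h2]
      exact Over.w (a ≫ φ)
    subst hu
    obtain rfl : c = a ≫ φ := Over.OverMorphism.ext h2
    obtain rfl : c' = b ≫ φ := Over.OverMorphism.ext h3
    exact Over.OverMorphism.ext h4.symm
  have hbij : ∀ (U : Over V₀) (x : U ⟶ H), ∃! a : U ⟶ Red.bc p H₀, a ≫ φ = x := by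
    intro U x
    let T : Over S := (Over.map p).obj U
    let v : T ⟶ Over.mk p := Over.homMk U.hom rfl
    obtain ⟨a, ha, hu⟩ := hy.bij v ((Over.map p).map x) (by
      rw [map_πp, Category.comp_id]; rfl)
    let A := (Over.mapPullbackAdj p).homEquiv U H₀
    have hA : ∀ c : U ⟶ Red.bc p H₀, (Over.map p).map c ≫ prBC₀ p H₀ = A.symm c := fun c =>
      Over.OverMorphism.ext (TorsPatchLib.homEquiv_symm_left p c).symm
    have key : ∀ c : U ⟶ Red.bc p H₀, (Over.map p).map (c ≫ φ) = lift (A.symm c) v ≫ y := fun c => by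
      rw [Functor.map_comp, hφ, ← hA, ← (Over.OverMorphism.ext (Over.w c) : (Over.map p).map c ≫ πp p _ = v),
        ← comp_lift, Category.assoc]
    refine ⟨A a, ?_, fun c hc => ?_⟩
    · refine Over.OverMorphism.ext ?_
      show ((Over.map p).map (A a ≫ φ)).left = ((Over.map p).map x).left
      rw [key, Equiv.symm_apply_apply, ha]
    · rw [← hu (A.symm c) ((key c).symm.trans (by rw [hc])), Equiv.apply_symm_apply]
  obtain ⟨ψ, hψ, -⟩ := hbij H (𝟙 H)
  haveI : IsIso φ := ⟨ψ, (hbij _ φ).unique (by rw [Category.assoc, hψ, Category.comp_id]) (Category.id_comp φ), hψ⟩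
  have : IsMonHom φ := by
    have hμ : μ ≫ φ = (φ ⊗ₘ φ) ≫ μ := by
      have h := hom_mul _ (fst (Red.bc p H₀) (Red.bc p H₀)) (snd _ _)
      simp only [Hom.mul_def, lift_fst_snd, Category.id_comp] at h
      rw [h, lift_fst_comp_snd_comp]
    have hone : η ≫ φ = η := by
      have h := hom_mul _ (1 : 𝟙_ (Over V₀) ⟶ Red.bc p H₀) 1
      rw [_root_.one_mul] at h
      have h' : (1 : 𝟙_ (Over V₀) ⟶ Red.bc p H₀) ≫ φ = 1 := right_eq_mul.1 h
      simp only [Hom.one_def, Category.assoc, toUnit_unit, Category.id_comp] at h'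
      exact h'
    exact ⟨hone, hμ⟩
  exact ⟨asIso φ, inferInstanceAs (IsMonHom φ)⟩

end GrpPatchLib
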