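import Groth.Agent.GrpPatchLib.Patch
import Groth.Agent.GrpPatchLib.Fibre

/-!
# Reductive groups on affine space descend when they descend Zariski locally
-/

set_option autoImplicit false
set_option backward.isDefEq.respectTransparency false
set_option linter.unusedSectionVars false
set_option linter.style.haveILetI false
universe u

open CategoryTheory CategoryTheory.Limits MonoidalCategory CartesianMonoidalCategory AlgebraicGeometry
open scoped MonObj
open TorsPatchLib (pt push πp W0 w0 jj zsec zsec_over)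

attribute [-instance] CategoryTheory.Hom.commGroup

noncomputable section

namespace GrpPatchLib

variable {S : Scheme.{u}} {n : Type u}

theorem one_mem_of_local {R : Type u} [CommRing R] (s : Spec (CommRingCat.of R) ⟶ S) [IsIso s]
    {R1 : Type u} [CommRing R1] [Algebra R R1] [GrpObj (pt s R1)] [LocallyOfFinitePresentation (pt s R1).hom]
    (H : Over (𝔸(n; S))) [GrpObj H] (e0 : pt s R1 ≅ Red.bc (zsec S n) H) [IsMonHom e0.hom]
    (hloc : ∀ x : S, ∃ (U : Scheme.{u}) (j : U ⟶ S) (_ : IsOpenImmersion j), x ∈ Set.range j.base ∧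
      HasFrame (zsec S n) (zsec_over S n) H e0 j) :
    Good s H e0 (1 : R) := by
  obtain ⟨I, hI⟩ := exists_ideal s H e0
  rw [← hI, ← Ideal.eq_top_iff_one]
  by_contra hne
  obtain ⟨𝔪, h𝔪, hI𝔪⟩ := Ideal.exists_le_maximal I hne
  let P : PrimeSpectrum R := ⟨𝔪, h𝔪.isPrime⟩
  obtain ⟨U, j, hj, hx, hU⟩ := hloc (s P)
  haveI := hj
  let W : Set (PrimeSpectrum R) := s ⁻¹' Set.range j
  have hW : IsOpen W := j.isOpenEmbedding.isOpen_range.preimage s.continuous
  obtain ⟨_, ⟨r, rfl⟩, hPr, hrW⟩ :=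
    PrimeSpectrum.isTopologicalBasis_basic_opens.exists_subset_of_mem_open (show P ∈ W from hx) hW
  have hrI : r ∈ I := by
    rw [hI]
    have hrange : Set.range (jj s (Localization.Away r)) ⊆ Set.range j := by
      rintro _ ⟨q, rfl⟩
      refine hrW ?_
      have h := PrimeSpectrum.localization_away_comap_range (Localization.Away r) r
      exact h.le ⟨q, rfl⟩
    exact hasFrame_of_hom s H e0 (IsOpenImmersion.lift j (jj s (Localization.Away r)) hrange)
      (IsOpenImmersion.lift_fac _ _ _) hU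
  exact hPr (hI𝔪 hrI)

theorem descends_of_good {R : Type u} [CommRing R] (s : Spec (CommRingCat.of R) ⟶ S) [IsIso s]
    {R1 : Type u} [CommRing R1] [Algebra R R1] [GrpObj (pt s R1)] [LocallyOfFinitePresentation (pt s R1).hom]
    (H : Over (𝔸(n; S))) [GrpObj H] (e0 : pt s R1 ≅ Red.bc (zsec S n) H) [IsMonHom e0.hom]
    (h : Good s H e0 (1 : R)) :
    ∃ φ : Red.bc (𝔸(n; S) ↘ S) (pt s R1) ≅ H, IsMonHom φ.hom := by
  haveI : IsIso (Spec.map (CommRingCat.ofHom (algebraMap R (Localization.Away (1 : R))))) := by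
    have hb := (IsLocalization.atUnits R (Submonoid.powers (1 : R)) (S := Localization.Away (1 : R))
      (by rw [Submonoid.powers_one]; exact bot_le)).bijective
    haveI : IsIso (CommRingCat.ofHom (algebraMap R (Localization.Away (1 : R)))) :=
      (ConcreteCategory.isIso_iff_bijective _).2 hb
    infer_instance
  have h1 : HasFrame (zsec S n) (zsec_over S n) H e0 (𝟙 S) := by
    unfold Good at h
    exact hasFrame_of_hom s H e0 (inv (jj s (Localization.Away (1 : R)))) (IsIso.inv_hom_id _) h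
  let f : Over.mk (𝔸(n; S) ↘ S) ⟶ W0 (𝔸(n; S) ↘ S) (𝟙 S) :=
    Over.homMk (pullback.lift (𝟙 _) (𝔸(n; S) ↘ S) (by simp)) (by
      show pullback.lift _ _ _ ≫ pullback.snd _ _ ≫ 𝟙 S = _
      rw [pullback.lift_snd_assoc, Category.comp_id]
      rfl)
  obtain ⟨y, hy⟩ := exists_frame_pull (D := fam (zsec S n) (zsec_over S n) H e0) f
    (Over.OverMorphism.ext (pullback.lift_fst _ _ _) : f ≫ w0 (𝔸(n; S) ↘ S) (𝟙 S) = 𝟙 _) h1
  exact exists_iso (zsec S n) (zsec_over S n) H e0 y hy

/-- A reductive group on affine space over an affine base which descends Zariski locally descends. -/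
theorem main [IsAffine S] (H : Over (𝔸(n; S))) [GrpObj H] (hH : Red.IsReductive H)
    (hloc : ∀ s : S, ∃ (U : Scheme.{u}) (j : U ⟶ S) (_ : IsOpenImmersion j), s ∈ Set.range j.base ∧
      ∃ (H₀ : Over U) (_ : GrpObj H₀), Red.IsReductive H₀ ∧
        Nonempty (Grp.mk (Red.bc (pullback.snd (𝔸(n; S) ↘ S) j) H₀) ≅
          Grp.mk (Red.bc (pullback.fst (𝔸(n; S) ↘ S) j) H))) :
    ∃ (H₀ : Over S) (_ : GrpObj H₀), Red.IsReductive H₀ ∧
      Nonempty (Grp.mk (Red.bc (𝔸(n; S) ↘ S) H₀) ≅ Grp.mk H) := by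
  have hz := zsec_over S n
  have hB : Red.IsReductive (Red.bc (zsec S n) H) := isReductive_section hz H hH
  haveI := hB.1
  haveI := hB.2.1
  haveI : IsAffine (Red.bc (zsec S n) H).left := isAffine_of_isAffineHom (Red.bc (zsec S n) H).hom
  let R : Type u := Γ(S, ⊤)
  let s : Spec (CommRingCat.of R) ⟶ S := S.isoSpec.inv
  haveI : IsIso s := inferInstanceAs (IsIso S.isoSpec.inv)
  let B := Red.bc (zsec S n) H
  let R1 : Type u := Γ(B.left, ⊤)
  let α : CommRingCat.of R ⟶ Γ(B.left, ⊤) := Spec.preimage (B.left.isoSpec.inv ≫ B.hom ≫ inv s)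
  letI : Algebra R R1 := α.hom.toAlgebra
  have hα : Spec.map (CommRingCat.ofHom (algebraMap R R1)) ≫ s = B.left.isoSpec.inv ≫ B.hom := by
    show Spec.map α ≫ s = _
    rw [Spec.map_preimage]
    simp
  let e0 : pt s R1 ≅ B := Over.isoMk B.left.isoSpec.symm hα.symm
  letI : GrpObj (pt s R1) := GrpObj.ofIso e0.symm
  haveI : IsMonHom e0.hom :=
    { one_hom := by
        show (η[B] ≫ e0.inv) ≫ e0.hom = η[B]
        rw [Category.assoc, Iso.inv_hom_id, Category.comp_id]
      mul_hom := by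
        show ((e0.hom ⊗ₘ e0.hom) ≫ μ[B] ≫ e0.inv) ≫ e0.hom = (e0.hom ⊗ₘ e0.hom) ≫ μ[B]
        rw [Category.assoc, Category.assoc, Iso.inv_hom_id, Category.comp_id] }
  haveI : LocallyOfFinitePresentation (pt s R1).hom := by
    show LocallyOfFinitePresentation (Spec.map _ ≫ s)
    rw [hα]
    infer_instance
  have hl : ∀ x : S, ∃ (U : Scheme.{u}) (j : U ⟶ S) (_ : IsOpenImmersion j), x ∈ Set.range j.base ∧
      HasFrame (zsec S n) hz H e0 j := fun x => by
    obtain ⟨U, j, hj, hx, H₀, _, -, ⟨E⟩⟩ := hloc x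
    let E' : Red.bc (pullback.snd (𝔸(n; S) ↘ S) j) H₀ ≅ Red.bc (pullback.fst (𝔸(n; S) ↘ S) j) H :=
      (Grp.forget _).mapIso E
    haveI : IsMonHom E'.hom := E.hom.hom.isMonHom_hom
    exact ⟨U, j, hj, hx, hasFrame_of_desc (zsec S n) hz H e0 j H₀ E'⟩
  obtain ⟨φ, hφ⟩ := descends_of_good s H e0 (one_mem_of_local s H e0 hl)
  let φ' : Red.bc (𝔸(n; S) ↘ S) B ≅ H := (Over.pullback (𝔸(n; S) ↘ S)).mapIso e0.symm ≪≫ φ
  haveI : IsMonHom e0.symm.hom := inferInstanceAs (IsMonHom e0.inv)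
  haveI : IsMonHom φ'.hom := by
    haveI := hφ
    haveI := isMonHom_bc_map (𝔸(n; S) ↘ S) e0.symm.hom
    show IsMonHom ((Over.pullback (𝔸(n; S) ↘ S)).map e0.symm.hom ≫ φ.hom)
    infer_instance
  exact ⟨B, inferInstance, hB, ⟨Grp.mkIso' φ'⟩⟩

end GrpPatchLib
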