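import Groth.Agent.GrpPatchLib.Geom
import Groth.Agent.GrpPatchLib.Descend
import Groth.Agent.TorsPatchLib.Ideal

/-!
# The ideal of descent of an affine group on affine space
-/

set_option autoImplicit false
set_option backward.isDefEq.respectTransparency false
set_option linter.unusedSectionVars false
set_option maxHeartbeats 400000
universe u

open CategoryTheory CategoryTheory.Limits MonoidalCategory CartesianMonoidalCategory AlgebraicGeometry
open scoped MonObj
open TorsPatchLib (pt ptm ptm_comp push πp zeroPt W0 w0 v0 jj aQ aQ_over wQ zsec zsec_over evz evz_comp evz_wQ htp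
  htp_zero htp_one locLift locLift_comp loc_ext range_ptm isOpenImmersion_ptm mono_of_isOpenImmersion)

attribute [-instance] CategoryTheory.Hom.commGroup

noncomputable section

namespace GrpPatchLib

variable {S : Scheme.{u}}

theorem exists_frame_pull {V₀ : Scheme.{u}} {p : V₀ ⟶ S} {H : Over V₀} [GrpObj H] {H₀ : Over S} [GrpObj H₀]
    {D : Fam p H H₀} {W W' : Over S} {w : W ⟶ Over.mk p} {w' : W' ⟶ Over.mk p} (f : W' ⟶ W) (hw : f ≫ w = w')
    (h : ∃ y, IsFrame D w y) : ∃ y, IsFrame D w' y := by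
  obtain ⟨y, hy⟩ := h
  exact ⟨_, hy.pull f hw⟩

theorem exists_frame_of_isEmpty {V₀ : Scheme.{u}} {p : V₀ ⟶ S} {H : Over V₀} [GrpObj H] {H₀ : Over S} [GrpObj H₀]
    {D : Fam p H H₀} {W : Over S} (w : W ⟶ Over.mk p) (hW : IsEmpty W.left) : ∃ y, IsFrame D w y := by
  have hT : ∀ T : Over S, (T ⟶ W) → IsEmpty T.left := fun T v => Function.isEmpty v.left
  haveI := hT _ (snd H₀ W)
  let y : H₀ ⊗ W ⟶ push p H := Over.homMk (isInitialOfIsEmpty.to _) (isInitialOfIsEmpty.hom_ext _ _)
  refine ⟨y, Over.OverMorphism.ext (isInitialOfIsEmpty.hom_ext _ _), fun {T} a b v => ?_, fun {T} v x h => ?_⟩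
  · haveI := hT T v
    obtain ⟨x'', hx''⟩ := exists_rm (x := lift a v ≫ y) (x' := lift b v ≫ y)
      (Over.OverMorphism.ext (isInitialOfIsEmpty.hom_ext _ _))
    obtain rfl : x'' = lift (a * b) v ≫ y := Over.OverMorphism.ext (isInitialOfIsEmpty.hom_ext _ _)
    exact hx''
  · haveI := hT T v
    exact ⟨1, Over.OverMorphism.ext (isInitialOfIsEmpty.hom_ext _ _),
      fun b _ => Over.OverMorphism.ext (isInitialOfIsEmpty.hom_ext _ _)⟩

section Patch

variable {R : Type u} [CommRing R] {s : Spec (CommRingCat.of R) ⟶ S} {R1 : Type u} [CommRing R1] [Algebra R R1]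
  {V0 : Scheme.{u}} {p : V0 ⟶ S} {z : S ⟶ V0} {hz : z ≫ p = 𝟙 S} [GrpObj (pt s R1)]
  {H : Over V0} [GrpObj H] {e0 : pt s R1 ≅ Red.bc z H} [IsMonHom e0.hom]
  {Q : Type u} [CommRing Q] [Algebra R Q] (w : pt s Q ⟶ Over.mk p)
  (ρ ρ' : Q) (hspan : Ideal.span ({ρ', ρ} : Set Q) = ⊤)
  (A A' B : Type u) [CommRing A] [CommRing A'] [CommRing B] [Algebra R A] [Algebra R A'] [Algebra R B]
  [Algebra Q A] [Algebra Q A'] [Algebra Q B] [IsScalarTower R Q A] [IsScalarTower R Q A'] [IsScalarTower R Q B]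
  [IsLocalization.Away ρ A] [IsLocalization.Away ρ' A'] [IsLocalization.Away (ρ' * ρ) B]
  [Algebra A B] [Algebra A' B] [IsScalarTower R A B] [IsScalarTower R A' B]
  [IsScalarTower Q A B] [IsScalarTower Q A' B]

omit [Algebra R Q] [CommRing Q] in
theorem range_ptm {P : Type u} [CommRing P] [Algebra R P] {C : Type u} [CommRing C] [Algebra R C]
    [Algebra P C] [IsScalarTower R P C] (t : P) [IsLocalization.Away t C] :
    Set.range (ptm s (IsScalarTower.toAlgHom R P C)).left = (PrimeSpectrum.basicOpen t : Set (PrimeSpectrum P)) :=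
  PrimeSpectrum.localization_away_comap_range C t

omit [Algebra R Q] [CommRing Q] in
theorem isOpenImmersion_ptm {P : Type u} [CommRing P] [Algebra R P] {C : Type u} [CommRing C] [Algebra R C]
    [Algebra P C] [IsScalarTower R P C] (t : P) [IsLocalization.Away t C] :
    IsOpenImmersion (ptm s (IsScalarTower.toAlgHom R P C)).left :=
  IsOpenImmersion.of_isLocalization t

include hspan in
/-- Two agreeing frames on a cover by two basic opens glue. -/
theorem glue_two (zA : pt s R1 ⊗ pt s A ⟶ push p H) (zA' : pt s R1 ⊗ pt s A' ⟶ push p H)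
    (hzA : IsFrame (fam z hz H e0) (ptm s (IsScalarTower.toAlgHom R Q A) ≫ w) zA)
    (hzA' : IsFrame (fam z hz H e0) (ptm s (IsScalarTower.toAlgHom R Q A') ≫ w) zA')
    (hagree : (pt s R1 ◁ ptm s (IsScalarTower.toAlgHom R A B)) ≫ zA =
      (pt s R1 ◁ ptm s (IsScalarTower.toAlgHom R A' B)) ≫ zA') :
    ∃ y, IsFrame (fam z hz H e0) w y := by
  let fA : pt s A ⟶ pt s Q := ptm s (IsScalarTower.toAlgHom R Q A)
  let fA' : pt s A' ⟶ pt s Q := ptm s (IsScalarTower.toAlgHom R Q A')
  let fB : pt s B ⟶ pt s Q := ptm s (IsScalarTower.toAlgHom R Q B)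
  haveI : IsOpenImmersion fA.left := isOpenImmersion_ptm ρ
  haveI : IsOpenImmersion fA'.left := isOpenImmersion_ptm ρ'
  haveI : IsOpenImmersion fB.left := isOpenImmersion_ptm (ρ' * ρ)
  have hlfA : ptm s (IsScalarTower.toAlgHom R A B) ≫ fA = fB := by
    rw [ptm_comp]
    congr 1
    exact AlgHom.ext fun c => (IsScalarTower.algebraMap_apply Q A B c).symm
  have hlfA' : ptm s (IsScalarTower.toAlgHom R A' B) ≫ fA' = fB := by
    rw [ptm_comp]
    congr 1
    exact AlgHom.ext fun c => (IsScalarTower.algebraMap_apply Q A' B c).symm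
  have cross : ∀ (T : Over S) (t : T ⟶ pt s R1) (a : T ⟶ pt s A) (b : T ⟶ pt s A'), a ≫ fA = b ≫ fA' →
      lift t a ≫ zA = lift t b ≫ zA' := by
    intro T t a b hab
    have hrange : Set.range (a ≫ fA).left ⊆ Set.range fB.left := by
      rintro _ ⟨x, rfl⟩
      have h1 : (a ≫ fA).left x ∈ Set.range fA.left := ⟨a.left x, rfl⟩
      have h2 : (a ≫ fA).left x ∈ Set.range fA'.left := by rw [hab]; exact ⟨b.left x, rfl⟩
      rw [range_ptm ρ] at h1
      rw [range_ptm ρ'] at h2
      rw [range_ptm (ρ' * ρ), PrimeSpectrum.basicOpen_mul]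
      exact ⟨h2, h1⟩
    let b0 : T ⟶ pt s B := Over.homMk (IsOpenImmersion.lift fB.left (a ≫ fA).left hrange) (by
      rw [← Over.w fB, ← Category.assoc, IsOpenImmersion.lift_fac]
      exact Over.w (a ≫ fA))
    have hb0 : b0 ≫ fB = a ≫ fA := Over.OverMorphism.ext (IsOpenImmersion.lift_fac _ _ _)
    have ha : a = b0 ≫ ptm s (IsScalarTower.toAlgHom R A B) :=
      mono_of_isOpenImmersion fA (by rw [Category.assoc, hlfA, hb0])
    have hb : b = b0 ≫ ptm s (IsScalarTower.toAlgHom R A' B) :=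
      mono_of_isOpenImmersion fA' (by rw [Category.assoc, hlfA', hb0, hab])
    have h := congrArg (lift t b0 ≫ ·) hagree
    simp only [lift_whiskerLeft_assoc] at h
    rw [ha, hb]
    exact h
  have hcov : ∀ x : (pt s Q).left, x ∈ Set.range fA.left ∨ x ∈ Set.range fA'.left := by
    intro x
    rw [range_ptm ρ, range_ptm ρ']
    by_contra hx
    obtain ⟨h1, h2⟩ := not_or.1 hx
    change ¬ ρ ∉ PrimeSpectrum.asIdeal x at h1
    change ¬ ρ' ∉ PrimeSpectrum.asIdeal x at h2
    rw [not_not] at h1 h2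
    apply (PrimeSpectrum.isPrime x).ne_top
    rw [← top_le_iff, ← hspan, Ideal.span_le]
    rintro c hc
    rcases hc with rfl | rfl
    · exact h2
    · exact h1
  let f : ∀ i : ULift.{u} Bool, (if i.down then pt s A else pt s A') ⟶ pt s Q := fun
    | ⟨true⟩ => fA
    | ⟨false⟩ => fA'
  haveI : ∀ i, IsOpenImmersion (f i).left := fun
    | ⟨true⟩ => inferInstanceAs (IsOpenImmersion fA.left)
    | ⟨false⟩ => inferInstanceAs (IsOpenImmersion fA'.left)
  refine glue_frame (D := fam z hz H e0) f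
    (fun x => (hcov x).elim (fun h => ⟨⟨true⟩, h⟩) fun h => ⟨⟨false⟩, h⟩)
    (fun i => match i with
      | ⟨true⟩ => zA
      | ⟨false⟩ => zA') ?_ ?_
  · rintro ⟨_ | _⟩
    · exact hzA'
    · exact hzA
  · rintro ⟨_ | _⟩ ⟨_ | _⟩ T t a b hab
    · have : a = b := mono_of_isOpenImmersion fA' hab
      rw [this]
    · exact (cross T t b a hab.symm).symm
    · exact cross T t a b hab
    · have : a = b := mono_of_isOpenImmersion fA hab
      rw [this]

variable (e : Q →ₐ[R] Q) (hee : e.comp e = e) (hew : ptm s e ≫ w = toUnit _ ≫ zeroPt z hz)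
  (Hh : Q →ₐ[R] Polynomial Q) (hH0 : (PatchLib.sub₁ (AlgHom.id R Q) 0).comp Hh = e)
  (hH1 : (PatchLib.sub₁ (AlgHom.id R Q) 1).comp Hh = AlgHom.id R Q)

omit [CommRing A'] [Algebra R A'] [Algebra Q A'] in
include hee hew in
theorem exists_endo (E : Type u) [CommRing E] [Algebra Q E] [Algebra R E] [IsScalarTower R Q E] (t : Q)
    (ht : e t = t) [IsLocalization.Away t E] :
    ∃ l : E →ₐ[R] E, l.comp (IsScalarTower.toAlgHom R Q E) = (IsScalarTower.toAlgHom R Q E).comp e ∧
      ptm s l ≫ ptm s l = ptm s l ∧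
      ptm s l ≫ ptm s (IsScalarTower.toAlgHom R Q E) ≫ w = toUnit _ ≫ zeroPt z hz := by
  have h1 : IsUnit (((IsScalarTower.toAlgHom R Q E).comp e) t) := by
    rw [AlgHom.comp_apply, ht]; exact IsLocalization.Away.algebraMap_isUnit t
  refine ⟨locLift t _ h1, locLift_comp _ _ _, ?_, ?_⟩
  · rw [ptm_comp]
    congr 1
    refine loc_ext t ?_
    rw [AlgHom.comp_assoc, locLift_comp, ← AlgHom.comp_assoc, locLift_comp, AlgHom.comp_assoc, hee]
  · rw [← Category.assoc, ptm_comp, locLift_comp, ← ptm_comp, Category.assoc, hew, comp_toUnit_assoc]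

variable [Mono s] [LocallyOfFinitePresentation (pt s R1).hom] (hρ : e ρ = ρ) (hρ' : e ρ' = ρ')
  (hHρ : Hh ρ = Polynomial.C ρ) (hHρ' : Hh ρ' = Polynomial.C ρ')

include B hspan hee hew hH0 hH1 hρ hρ' hHρ hHρ' in
/-- Frames on two basic opens generating the unit ideal give one on everything. -/
theorem patch (hA : ∃ y, IsFrame (fam z hz H e0) (ptm s (IsScalarTower.toAlgHom R Q A) ≫ w) y)
    (hA' : ∃ y, IsFrame (fam z hz H e0) (ptm s (IsScalarTower.toAlgHom R Q A') ≫ w) y) :
    ∃ y, IsFrame (fam z hz H e0) w y := by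
  obtain ⟨yA₀, hyA₀⟩ := hA
  obtain ⟨yA'₀, hyA'₀⟩ := hA'
  let lA := IsScalarTower.toAlgHom R A B
  let lA' := IsScalarTower.toAlgHom R A' B
  let ιA := IsScalarTower.toAlgHom R Q A
  let ιA' := IsScalarTower.toAlgHom R Q A'
  let ιB := IsScalarTower.toAlgHom R Q B
  have hlι : lA.comp ιA = ιB := AlgHom.ext fun c => (IsScalarTower.algebraMap_apply Q A B c).symm
  have hlι' : lA'.comp ιA' = ιB := AlgHom.ext fun c => (IsScalarTower.algebraMap_apply Q A' B c).symm
  obtain ⟨eA, heA, heA2, heAw⟩ := exists_endo (z := z) (hz := hz) w e hee hew A ρ hρ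
  obtain ⟨eA', heA', heA'2, heA'w⟩ := exists_endo (z := z) (hz := hz) w e hee hew A' ρ' hρ'
  obtain ⟨eB, heB, -, -⟩ := exists_endo (z := z) (hz := hz) w e hee hew B (ρ' * ρ)
    (by rw [map_mul, hρ, hρ'])
  obtain ⟨yA, hyA, hyA1⟩ := hyA₀.normalise (ptm s eA) heA2 heAw
  obtain ⟨yA', hyA', hyA'1⟩ := hyA'₀.normalise (ptm s eA') heA'2 heA'w
  have hyAB : IsFrame (fam z hz H e0) (ptm s ιB ≫ w) ((pt s R1 ◁ ptm s lA) ≫ yA) :=
    hyA.pull _ (by rw [← Category.assoc, ptm_comp, hlι])
  have hyA'B : IsFrame (fam z hz H e0) (ptm s ιB ≫ w) ((pt s R1 ◁ ptm s lA') ≫ yA') :=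
    hyA'.pull _ (by rw [← Category.assoc, ptm_comp, hlι'])
  obtain ⟨θ, hθy⟩ : ∃ θ : Aut (pt s R1) (pt s B),
      act θ ((pt s R1 ◁ ptm s lA) ≫ yA) = (pt s R1 ◁ ptm s lA') ≫ yA' :=
    hyAB.exists_trans hyA'B
  have hcomm : lA.comp eA = eB.comp lA := loc_ext ρ (by
    rw [AlgHom.comp_assoc, heA, ← AlgHom.comp_assoc, hlι, AlgHom.comp_assoc, hlι, heB])
  have hcomm' : lA'.comp eA' = eB.comp lA' := loc_ext ρ' (by
    rw [AlgHom.comp_assoc, heA', ← AlgHom.comp_assoc, hlι', AlgHom.comp_assoc, hlι', heB])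
  have hθ0 : pl eB θ = 1 := by
    refine (isFrame_zero (D := fam z hz H e0) (W := pt s B)).act_injective ?_
    have h := congrArg ((pt s R1 ◁ ptm s eB) ≫ ·) hθy
    change (pt s R1 ◁ ptm s eB) ≫ act θ _ = _ at h
    rw [pull_act] at h
    rw [← Category.assoc (pt s R1 ◁ ptm s eB), ← MonoidalCategory.whiskerLeft_comp, ptm_comp, ← hcomm, ← ptm_comp,
      MonoidalCategory.whiskerLeft_comp, Category.assoc] at h
    erw [hyA1, whiskerLeft_fst_assoc] at h
    change _ = (pt s R1 ◁ ptm s eB) ≫ (pt s R1 ◁ ptm s lA') ≫ yA' at h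
    rw [← Category.assoc (pt s R1 ◁ ptm s eB), ← MonoidalCategory.whiskerLeft_comp, ptm_comp, ← hcomm', ← ptm_comp,
      MonoidalCategory.whiskerLeft_comp, Category.assoc] at h
    erw [hyA'1, whiskerLeft_fst_assoc] at h
    rw [act_one]
    exact h
  have hψu : IsUnit (((Polynomial.mapAlgHom ιB).comp Hh) (ρ' * ρ)) := by
    rw [AlgHom.comp_apply, map_mul Hh, hHρ', hHρ, ← Polynomial.C_mul]
    show IsUnit (Polynomial.map _ (Polynomial.C (ρ' * ρ)))
    rw [Polynomial.map_C]
    exact Polynomial.isUnit_C.2 (IsLocalization.Away.algebraMap_isUnit (ρ' * ρ))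
  let ψ : B →ₐ[R] Polynomial B := locLift (ρ' * ρ) _ hψu
  have hψev : ∀ (b : Q) (x : B), ιB b = x →
      ((PatchLib.sub₁ (AlgHom.id R B) x).comp ψ).comp ιB =
        ιB.comp ((PatchLib.sub₁ (AlgHom.id R Q) b).comp Hh) := by
    intro b x hbx
    rw [AlgHom.comp_assoc, locLift_comp, ← AlgHom.comp_assoc, ← AlgHom.comp_assoc]
    congr 1
    exact PatchLib.algHom_ext (fun c => by simp) (by simp [hbx])
  have hψ0 : (PatchLib.sub₁ (AlgHom.id R B) 0).comp ψ = eB := by
    refine loc_ext (ρ' * ρ) ?_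
    rw [hψev 0 0 (map_zero _), hH0, heB]
  have hψ1 : (PatchLib.sub₁ (AlgHom.id R B) 1).comp ψ = AlgHom.id R B := by
    refine loc_ext (ρ' * ρ) ?_
    rw [hψev 1 1 (map_one _), hH1, AlgHom.comp_id, AlgHom.id_comp]
  obtain ⟨g₁, g₂, hg⟩ := exists_aut_mul (s := s) (Q := Q) hspan A' A B
    (pl ψ θ⁻¹) (by rw [pl_pl, hψ0, pl_inv, hθ0, inv_one])
  let h₁ := pl (PatchLib.sub₁ (AlgHom.id R A') 1) g₁
  let h₂ := pl (PatchLib.sub₁ (AlgHom.id R A) 1) g₂
  have hθ12 : θ⁻¹ = pl lA' h₁ * pl lA h₂ := by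
    have h := congrArg (pl (PatchLib.sub₁ (AlgHom.id R B) 1)) hg
    rw [pl_pl, hψ1, pl_id, pl_mul, pl_pl, pl_pl] at h
    rw [h, pl_pl, pl_pl]
    congr 2
    · exact PatchLib.algHom_ext (fun c => by simp [lA']) (by simp [lA'])
    · exact PatchLib.algHom_ext (fun c => by simp [lA]) (by simp [lA])
  refine glue_two w ρ ρ' hspan A A' B (act h₂⁻¹ yA) (act h₁ yA') (hyA.act _) (hyA'.act _) ?_
  show (pt s R1 ◁ ptm s lA) ≫ act h₂⁻¹ yA = (pt s R1 ◁ ptm s lA') ≫ act h₁ yA'
  rw [pull_act, pull_act, ← hθy]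
  refine Eq.trans ?_ (act_mul _ _ _)
  congr 1
  show pl lA h₂⁻¹ = θ * pl lA' h₁
  rw [← inv_inv θ, hθ12, pl_inv, mul_inv_rev, inv_mul_cancel_right]

omit [Algebra A B] [Algebra A' B] [IsScalarTower R A B] [IsScalarTower R A' B]
  [IsScalarTower Q A B] [IsScalarTower Q A' B] in
include B hspan hee hew hH0 hH1 hρ hρ' hHρ hHρ' in
/-- `patch`, constructing the maps to the intersection. -/
theorem patch' (hA : ∃ y, IsFrame (fam z hz H e0) (ptm s (IsScalarTower.toAlgHom R Q A) ≫ w) y)
    (hA' : ∃ y, IsFrame (fam z hz H e0) (ptm s (IsScalarTower.toAlgHom R Q A') ≫ w) y) :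
    ∃ y, IsFrame (fam z hz H e0) w y := by
  have hu : IsUnit (algebraMap Q B ρ') ∧ IsUnit (algebraMap Q B ρ) := by
    have := IsLocalization.Away.algebraMap_isUnit (S := B) (ρ' * ρ)
    rw [map_mul] at this
    exact IsUnit.mul_iff.1 this
  let lA : A →ₐ[R] B := locLift ρ (IsScalarTower.toAlgHom R Q B) hu.2
  let lA' : A' →ₐ[R] B := locLift ρ' (IsScalarTower.toAlgHom R Q B) hu.1
  letI : Algebra A B := lA.toRingHom.toAlgebra
  letI : Algebra A' B := lA'.toRingHom.toAlgebra
  have : IsScalarTower R A B := IsScalarTower.of_algebraMap_eq fun c => (lA.commutes c).symm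
  have : IsScalarTower R A' B := IsScalarTower.of_algebraMap_eq fun c => (lA'.commutes c).symm
  have : IsScalarTower Q A B := IsScalarTower.of_algebraMap_eq fun c =>
    (AlgHom.congr_fun (locLift_comp (A := A) ρ (IsScalarTower.toAlgHom R Q B) hu.2) c).symm
  have : IsScalarTower Q A' B := IsScalarTower.of_algebraMap_eq fun c =>
    (AlgHom.congr_fun (locLift_comp (A := A') ρ' (IsScalarTower.toAlgHom R Q B) hu.1) c).symm
  exact patch w ρ ρ' hspan A A' B e hee hew Hh hH0 hH1 hρ hρ' hHρ hHρ' hA hA'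

end Patch

variable {n : Type u} {R : Type u} [CommRing R] (s : Spec (CommRingCat.of R) ⟶ S) [IsIso s]
  {R1 : Type u} [CommRing R1] [Algebra R R1] [LocallyOfFinitePresentation (pt s R1).hom]
  (H : Over (𝔸(n; S))) [GrpObj H] [GrpObj (pt s R1)] (e0 : pt s R1 ≅ Red.bc (zsec S n) H) [IsMonHom e0.hom]

/-- `r` is good: there is a frame over `Spec R[1/r]`. -/
def Good (r : R) : Prop :=
  HasFrame (zsec S n) (zsec_over S n) H e0 (jj s (Localization.Away r))

theorem good_zero : Good s H e0 0 := by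
  have : Subsingleton (Localization.Away (0 : R)) :=
    IsLocalization.subsingleton (M := Submonoid.powers (0 : R)) (Submonoid.mem_powers 0)
  haveI : IsEmpty (Spec (CommRingCat.of (Localization.Away (0 : R)))) :=
    inferInstanceAs (IsEmpty (PrimeSpectrum (Localization.Away (0 : R))))
  have h : IsEmpty (W0 (𝔸(n; S) ↘ S) (jj s (Localization.Away (0 : R)))).left :=
    Function.isEmpty (pullback.snd (𝔸(n; S) ↘ S) (jj s (Localization.Away (0 : R))))
  exact exists_frame_of_isEmpty (D := fam (zsec S n) (zsec_over S n) H e0)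
    (w0 (𝔸(n; S) ↘ S) (jj s (Localization.Away (0 : R)))) h

theorem hasFrame_of_hom {V V' : Scheme.{u}} {j : V ⟶ S} {j' : V' ⟶ S} (h : V' ⟶ V) (hj : h ≫ j = j')
    (hg : HasFrame (zsec S n) (zsec_over S n) H e0 j) : HasFrame (zsec S n) (zsec_over S n) H e0 j' := by
  let f : W0 (𝔸(n; S) ↘ S) j' ⟶ W0 (𝔸(n; S) ↘ S) j :=
    Over.homMk (pullback.lift (pullback.fst _ j') (pullback.snd _ j' ≫ h)
      (by rw [Category.assoc, hj, pullback.condition])) (by
      show pullback.lift _ _ _ ≫ pullback.snd _ j ≫ j = _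
      rw [pullback.lift_snd_assoc, Category.assoc, hj]
      rfl)
  exact exists_frame_pull (D := fam (zsec S n) (zsec_over S n) H e0) f
    (Over.OverMorphism.ext (pullback.lift_fst _ _ _)) hg

theorem good_mul (a r : R) (hr : Good s H e0 r) : Good s H e0 (a * r) := by
  have hu : IsUnit (algebraMap R (Localization.Away (a * r)) r) :=
    isUnit_of_mul_isUnit_right (by
      rw [← map_mul]
      exact IsLocalization.Away.algebraMap_isUnit (a * r))
  refine hasFrame_of_hom s H e0
    (Spec.map (CommRingCat.ofHom (IsLocalization.Away.lift (S := Localization.Away r) r hu))) ?_ hr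
  rw [← Spec.map_comp_assoc, ← CommRingCat.ofHom_comp, IsLocalization.Away.lift_comp]

theorem frame_of_hasFrame (t : R) (C : Type u) [CommRing C] [Algebra R C] {Q : Type u} [CommRing Q] [Algebra R Q]
    (f : pt s C ⟶ pt s Q) (w : pt s Q ⟶ Over.mk (𝔸(n; S) ↘ S)) (hu : IsUnit (algebraMap R C t))
    (hg : HasFrame (zsec S n) (zsec_over S n) H e0 (jj s (Localization.Away t))) :
    ∃ y, IsFrame (fam (zsec S n) (zsec_over S n) H e0) (f ≫ w) y := by
  let g : pt s C ⟶ W0 (𝔸(n; S) ↘ S) (jj s (Localization.Away t)) :=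
    Over.homMk (pullback.lift (f ≫ w).left
      (Spec.map (CommRingCat.ofHom (IsLocalization.Away.lift (S := Localization.Away t) t hu))) (by
        rw [← Spec.map_comp_assoc, ← CommRingCat.ofHom_comp, IsLocalization.Away.lift_comp]
        exact Over.w (f ≫ w))) (by
      show pullback.lift _ _ _ ≫ pullback.snd _ _ ≫ jj s (Localization.Away t) = _
      rw [pullback.lift_snd_assoc, ← Spec.map_comp_assoc, ← CommRingCat.ofHom_comp, IsLocalization.Away.lift_comp]
      rfl)
  exact exists_frame_pull (D := fam (zsec S n) (zsec_over S n) H e0) g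
    (Over.OverMorphism.ext (pullback.lift_fst _ _ _)) hg

theorem hasFrame_of_wQ (R' : Type u) [CommRing R'] [Algebra R R']
    (h : ∃ y, IsFrame (fam (zsec S n) (zsec_over S n) H e0) (wQ n s R') y) :
    HasFrame (zsec S n) (zsec_over S n) H e0 (jj s R') := by
  let pb := (AffineSpace.isPullback_map (n := n) (jj s R')).isoPullback
  have e : (pb.inv ≫ (AffineSpace.SpecIso n (CommRingCat.of R')).hom) ≫ aQ n s R' =
      pullback.fst (𝔸(n; S) ↘ S) (jj s R') := by
    rw [aQ, Category.assoc, Iso.hom_inv_id_assoc, IsPullback.isoPullback_inv_fst]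
  let g : W0 (𝔸(n; S) ↘ S) (jj s R') ⟶ pt s (MvPolynomial n R') :=
    Over.homMk (pb.inv ≫ (AffineSpace.SpecIso n (CommRingCat.of R')).hom) (by
      show _ ≫ Spec.map _ ≫ s = _
      rw [← aQ_over, ← Category.assoc, e, pullback.condition]
      rfl)
  refine exists_frame_pull (D := fam (zsec S n) (zsec_over S n) H e0) g (w := wQ n s R') ?_ h
  refine Over.OverMorphism.ext ?_
  exact e

theorem exists_frame_wQ (r r' : R) (hr : Good s H e0 r) (hr' : Good s H e0 r') (R' : Type u) [CommRing R']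
    [Algebra R R'] (h : IsUnit (algebraMap R R' (r + r'))) :
    ∃ y, IsFrame (fam (zsec S n) (zsec_over S n) H e0) (wQ n s R') y := by
  unfold Good at *
  have hspan : Ideal.span ({algebraMap R (MvPolynomial n R') r', algebraMap R (MvPolynomial n R') r} :
      Set (MvPolynomial n R')) = ⊤ := by
    refine Ideal.eq_top_of_isUnit_mem _ (x := algebraMap R (MvPolynomial n R') (r + r')) ?_ ?_
    · rw [map_add]
      exact Ideal.add_mem _ (Ideal.subset_span (by simp)) (Ideal.subset_span (by simp))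
    · rw [IsScalarTower.algebraMap_apply R R' (MvPolynomial n R')]
      exact h.map _
  refine patch' (z := zsec S n) (hz := zsec_over S n) (e0 := e0) (wQ n s R')
    (algebraMap R (MvPolynomial n R') r) (algebraMap R (MvPolynomial n R') r') hspan
    (Localization.Away (algebraMap R (MvPolynomial n R') r)) (Localization.Away (algebraMap R (MvPolynomial n R') r'))
    (Localization.Away (algebraMap R (MvPolynomial n R') r' * algebraMap R (MvPolynomial n R') r))
    (evz n R') (evz_comp n R') (evz_wQ n s R') (htp n R') (htp_zero n R') (htp_one n R')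
    ((evz n R').commutes r) ((evz n R').commutes r') ((htp n R').commutes r) ((htp n R').commutes r') ?_ ?_
  · exact frame_of_hasFrame s H e0 r _ _ _
      (by
        have h := IsLocalization.Away.algebraMap_isUnit
          (S := Localization.Away (algebraMap R (MvPolynomial n R') r)) (algebraMap R (MvPolynomial n R') r)
        rwa [← IsScalarTower.algebraMap_apply] at h) hr
  · exact frame_of_hasFrame s H e0 r' _ _ _
      (by
        have h := IsLocalization.Away.algebraMap_isUnit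
          (S := Localization.Away (algebraMap R (MvPolynomial n R') r')) (algebraMap R (MvPolynomial n R') r')
        rwa [← IsScalarTower.algebraMap_apply] at h) hr'

theorem good_add (r r' : R) (hr : Good s H e0 r) (hr' : Good s H e0 r') : Good s H e0 (r + r') :=
  hasFrame_of_wQ s H e0 _ (exists_frame_wQ s H e0 r r' hr hr' _ (IsLocalization.Away.algebraMap_isUnit (r + r')))

/-- The ideal of descent. -/
theorem exists_ideal : ∃ I : Ideal R, ∀ r, r ∈ I ↔ Good s H e0 r :=
  ⟨{ carrier := {r | Good s H e0 r}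
     zero_mem' := good_zero s H e0
     add_mem' := fun h h' => good_add s H e0 _ _ h h'
     smul_mem' := fun a r h => good_mul s H e0 a r h }, fun _ => Iff.rfl⟩

end GrpPatchLib
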