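import Groth.Agent.TorsPatchLib.Geom

/-!
# The relative multiplication of a group scheme over `V`, seen over `S`
-/

set_option autoImplicit false
set_option backward.isDefEq.respectTransparency false
universe u

open CategoryTheory CategoryTheory.Limits MonoidalCategory CartesianMonoidalCategory AlgebraicGeometry
open scoped MonObj
open TorsPatchLib (push πp prBC prBC₀)

attribute [-instance] CategoryTheory.Hom.commGroup

noncomputable section

namespace GrpPatchLib

variable {S V : Scheme.{u}} {f : V ⟶ S} {Y Y' : Over V} [GrpObj Y] [GrpObj Y']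

/-- `x''` is the product of `x` and `x'` in their common fibre. -/
def RM (f : V ⟶ S) {Y : Over V} [GrpObj Y] {T : Over S} (x x' x'' : T ⟶ push f Y) : Prop :=
  ∃ (u : T.left ⟶ V) (a a' : Over.mk u ⟶ Y), a.left = x.left ∧ a'.left = x'.left ∧ (a * a').left = x''.left

variable {T : Over S} {x x' x'' : T ⟶ push f Y}

theorem RM.comp (h : RM f x x' x'') {T' : Over S} (g : T' ⟶ T) : RM f (g ≫ x) (g ≫ x') (g ≫ x'') := by
  obtain ⟨u, a, a', ha, ha', haa⟩ := h
  let G : Over.mk (g.left ≫ u) ⟶ Over.mk u := Over.homMk g.left rfl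
  refine ⟨_, G ≫ a, G ≫ a', ?_, ?_, ?_⟩
  · show g.left ≫ a.left = g.left ≫ x.left
    rw [ha]
  · show g.left ≫ a'.left = g.left ≫ x'.left
    rw [ha']
  · rw [← MonObj.comp_mul]
    show g.left ≫ (a * a').left = g.left ≫ x''.left
    rw [haa]

theorem RM.unique (h : RM f x x' x'') {y : T ⟶ push f Y} (h' : RM f x x' y) : x'' = y := by
  obtain ⟨u, a, a', ha, ha', haa⟩ := h
  obtain ⟨v, b, b', hb, hb', hbb⟩ := h'
  obtain rfl : u = v := by
    have h1 : a.left ≫ Y.hom = u := Over.w a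
    have h2 : b.left ≫ Y.hom = v := Over.w b
    rw [← h1, ← h2, ha, hb]
  obtain rfl : a = b := Over.OverMorphism.ext (ha.trans hb.symm)
  obtain rfl : a' = b' := Over.OverMorphism.ext (ha'.trans hb'.symm)
  exact Over.OverMorphism.ext (haa.symm.trans hbb)

theorem exists_rm {x x' : T ⟶ push f Y} (h : x ≫ πp f Y = x' ≫ πp f Y) : ∃ x'', RM f x x' x'' := by
  let u := x.left ≫ Y.hom
  let a : Over.mk u ⟶ Y := Over.homMk x.left rfl
  let a' : Over.mk u ⟶ Y := Over.homMk x'.left (congrArg Over.Hom.left h).symm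
  exact ⟨Over.homMk (a * a').left (by
    show (a * a').left ≫ Y.hom ≫ f = T.hom
    rw [← Category.assoc, Over.w]
    exact TorsPatchLib.over_left f x), u, a, a', rfl, rfl, rfl⟩

theorem RM.π_left (h : RM f x x' x'') : x'' ≫ πp f Y = x ≫ πp f Y := by
  obtain ⟨u, a, a', ha, ha', haa⟩ := h
  refine Over.OverMorphism.ext ?_
  show x''.left ≫ Y.hom = x.left ≫ Y.hom
  rw [← ha, ← haa, Over.w, Over.w]

theorem RM.π_right (h : RM f x x' x'') : x'' ≫ πp f Y = x' ≫ πp f Y := by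
  obtain ⟨u, a, a', ha, ha', haa⟩ := h
  refine Over.OverMorphism.ext ?_
  show x''.left ≫ Y.hom = x'.left ≫ Y.hom
  rw [← ha', ← haa, Over.w, Over.w]

theorem RM.map (h : RM f x x' x'') (φ : Y ⟶ Y') [IsMonHom φ] :
    RM f (x ≫ (Over.map f).map φ) (x' ≫ (Over.map f).map φ) (x'' ≫ (Over.map f).map φ) := by
  obtain ⟨u, a, a', ha, ha', haa⟩ := h
  refine ⟨u, a ≫ φ, a' ≫ φ, ?_, ?_, ?_⟩
  · show a.left ≫ φ.left = x.left ≫ φ.left
    rw [ha]
  · show a'.left ≫ φ.left = x'.left ≫ φ.left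
    rw [ha']
  · rw [← MonObj.mul_comp]
    show (a * a').left ≫ φ.left = x''.left ≫ φ.left
    rw [haa]

omit f x x' x'' in
theorem homEquiv_symm_mul {V' : Scheme.{u}} (q : V' ⟶ V) {U : Over V'} (a b : U ⟶ Red.bc q Y) :
    ((Over.mapPullbackAdj q).homEquiv U Y).symm (a * b) =
      ((Over.mapPullbackAdj q).homEquiv U Y).symm a * ((Over.mapPullbackAdj q).homEquiv U Y).symm b := by
  rw [Equiv.symm_apply_eq, AlgGrp.Action.homEquiv_mul, Equiv.apply_symm_apply, Equiv.apply_symm_apply]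

variable {V' : Scheme.{u}} (q : V' ⟶ V) {d : V' ⟶ S} (hd : q ≫ f = d)

theorem RM.prBC {x x' x'' : T ⟶ push d (Red.bc q Y)} (h : RM d x x' x'') :
    RM f (x ≫ prBC f q hd Y) (x' ≫ prBC f q hd Y) (x'' ≫ prBC f q hd Y) := by
  obtain ⟨u, a, a', ha, ha', haa⟩ := h
  let E := (Over.mapPullbackAdj q).homEquiv (Over.mk u) Y
  refine ⟨u ≫ q, E.symm a, E.symm a', ?_, ?_, ?_⟩
  · show _ = x.left ≫ pullback.fst Y.hom q
    rw [TorsPatchLib.homEquiv_symm_left, ha]
  · show _ = x'.left ≫ pullback.fst Y.hom q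
    rw [TorsPatchLib.homEquiv_symm_left, ha']
  · show _ = x''.left ≫ pullback.fst Y.hom q
    rw [← haa, ← TorsPatchLib.homEquiv_symm_left, homEquiv_symm_mul]

theorem RM.of_prBC {x x' x'' : T ⟶ push d (Red.bc q Y)}
    (h : RM f (x ≫ TorsPatchLib.prBC f q hd Y) (x' ≫ TorsPatchLib.prBC f q hd Y) (x'' ≫ TorsPatchLib.prBC f q hd Y))
    (h1 : x ≫ πp d _ = x' ≫ πp d _) (h2 : x'' ≫ πp d _ = x ≫ πp d _) : RM d x x' x'' := by
  obtain ⟨y, hy⟩ := exists_rm h1
  obtain rfl : x'' = y := TorsPatchLib.bc_point_ext f q hd Y (h.unique (hy.prBC q hd)) (h2.trans hy.π_left.symm)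
  exact hy

/-- Products in the fibres of a base change are products. -/
theorem RM.prBC₀ {Z : Over S} [GrpObj Z] {x x' x'' : T ⟶ push f (Red.bc f Z)} (h : RM f x x' x'') :
    (x ≫ prBC₀ f Z) * (x' ≫ prBC₀ f Z) = x'' ≫ prBC₀ f Z := by
  obtain ⟨u, a, a', ha, ha', haa⟩ := h
  have hu : u ≫ f = T.hom := by
    have h1 : a.left ≫ (Red.bc f Z).hom = u := Over.w a
    rw [← h1, ha, Category.assoc]
    exact Over.w x
  let E := (Over.mapPullbackAdj f).homEquiv (Over.mk u) Z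
  let k : T ⟶ (Over.map f).obj (Over.mk u) := Over.homMk (𝟙 _) ((Category.id_comp _).trans hu)
  have key : ∀ (b : Over.mk u ⟶ Red.bc f Z) (y : T ⟶ push f (Red.bc f Z)), b.left = y.left →
      y ≫ TorsPatchLib.prBC₀ f Z = k ≫ E.symm b := fun b y hb => by
    refine Over.OverMorphism.ext ?_
    show y.left ≫ pullback.fst Z.hom f = 𝟙 _ ≫ (E.symm b).left
    rw [TorsPatchLib.homEquiv_symm_left, hb]
    exact (Category.id_comp _).symm
  rw [key a x ha, key a' x' ha', key (a * a') x'' haa, homEquiv_symm_mul, MonObj.comp_mul]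

/-- Points of the fibre along a section. -/
theorem rm_section (z : S ⟶ V) (hz : z ≫ f = 𝟙 S) (i : Red.bc z Y ⟶ push f Y)
    (hi : i.left = pullback.fst Y.hom z) (a b : T ⟶ Red.bc z Y) : RM f (a ≫ i) (b ≫ i) ((a * b) ≫ i) := by
  let E := (Over.mapPullbackAdj z).homEquiv T Y
  refine ⟨T.hom ≫ z, E.symm a, E.symm b, ?_, ?_, ?_⟩
  · show _ = a.left ≫ i.left
    rw [hi]
    exact TorsPatchLib.homEquiv_symm_left z a
  · show _ = b.left ≫ i.left
    rw [hi]
    exact TorsPatchLib.homEquiv_symm_left z b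
  · show _ = (a * b).left ≫ i.left
    rw [hi, ← TorsPatchLib.homEquiv_symm_left, homEquiv_symm_mul]

end GrpPatchLib
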